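import Cfsg.Agent.Mrg.Omega.Lin.OutDef
import Cfsg.Agent.Mrg.Omega.NO3S.SN.TwoP.NoOver
import Cfsg.Agent.Mrg.Omega.NO3S.SN.TwoP.Five
import Cfsg.Agent.Mrg.Omega.SQ1.Choice

section


/-!
# LightL (E), `n = 5`: TWO PAIRS at every stage (helper411 #25060 (A), helper586 #20800), the letter-free core

`V` of order 16 with the basis `x = 12`, `y = 34`, `w₁ = z₁`, `w₂ = z₃`; `Z = ⟨x, y⟩`; `R` a `T`-minimal subgroup of
`C_G(Z)`, minimal with `R ≰ Ls`; `U ≥ V` elementary abelian and `R`-invariant; `A` elementary abelian, best on the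
subgroups of `U`, `A = A₀⟨a⟩`, `A₀ = C_A(V) ≤ T`, `A₀ V` is best, too, `a` acts on `V` as `(1 3)`.
Input `one` : every `R`-invariant `M ≤ U` centralised by `O₂(R)` is centralised by `O²(R)`.

* `Pr` : the situation; **`Pr.false_of : Pr → False`**.
-/

set_option autoImplicit false
set_option linter.unusedSectionVars false

namespace Cfsg.Agent.Omega.NO3S.LightFive.TwoA

open Subgroup Cfsg Cfsg.Agent.ZN Cfsg.Agent.ZN.ChoiceBase
open Cfsg.Agent.ZN.ChoiceSit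
open Cfsg.Agent.Omega.SQ1.Bau (mem_sup_comm card_sup_comm)
open Cfsg.Agent.MinSimple.MinParabolic (IsMinPar)
open Cfsg.Agent.MinSimple.VModule (oddGen oddGen_le mem_oddGen le_normalizer_oddGen)
open Cfsg.Agent.Omega.NO3S.SN.TwoP (Mod D_le_Mod mem_Mod Mod_le Mod_conj conj_mem_Mod comm_iff comm_prod count2
  split2 qf qf_mul qf_eq_zero noOver oddGen_sup norm_of)

universe u

variable {G : Type u} [Group G]

theorem two_card_le [Finite G] {Y Z : Subgroup G} (h : Z ≤ Y) {v : G} (hv : v ∈ Y) (hvZ : v ∉ Z) :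
    2 * Nat.card Z ≤ Nat.card Y := by
  obtain ⟨k, hk⟩ := Subgroup.card_dvd_of_le h
  have h0 : 0 < Nat.card Y := Nat.card_pos
  rw [hk, mul_comm]
  apply Nat.mul_le_mul_left
  by_contra hk2
  have hk1 : k = 1 := by
    rcases Nat.eq_zero_or_pos k with h1 | h1
    · rw [h1, mul_zero] at hk; omega
    · omega
  rw [hk1, mul_one] at hk
  have := Subgroup.eq_of_le_of_card_ge h hk.le
  rw [this] at hvZ
  exact hvZ hv

/-- `⟨x, y⟩` -/
def Zx (x y : G) : Subgroup G := closure {x, y}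

/-- **The situation of TWO PAIRS** (#25060 (A)). -/
structure Pr [Finite G] (Ls T R U V A : Subgroup G) (x y w₁ w₂ a : G) : Prop where
  T2 : IsPGroup 2 T
  syl : Syl T R
  par : IsMinPar T R
  TLs : T ≤ Ls
  nR : ¬ R ≤ Ls
  min : ∀ K : Subgroup G, T ≤ K → K < R → K ≤ Ls
  nrm : ∀ r ∈ R, r ∈ normalizer (T : Set G) → r ∈ Ls
  Uc : ∀ u ∈ U, ∀ v ∈ U, u * v = v * u
  Us : ∀ u ∈ U, u * u = 1
  RU : ∀ r ∈ R, ∀ u ∈ U, r * u * r⁻¹ ∈ U
  VU : V ≤ U
  xV : x ∈ V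
  yV : y ∈ V
  w₁V : w₁ ∈ V
  w₂V : w₂ ∈ V
  gen : V ≤ closure {x, y, w₁, w₂}
  x1 : x ≠ 1
  y1 : y ≠ 1
  xy : x ≠ y
  w₁Z : w₁ ∉ Zx x y
  w₂Z : w₂ ∉ Zx x y
  wZ : w₁ * w₂ ∉ Zx x y
  Rx : ∀ r ∈ R, r * x = x * r
  Ry : ∀ r ∈ R, r * y = y * r
  Tw₁ : ∀ t ∈ T, t * w₁ * t⁻¹ * w₁⁻¹ = 1 ∨ t * w₁ * t⁻¹ * w₁⁻¹ = x
  Tw₂ : ∀ t ∈ T, t * w₂ * t⁻¹ * w₂⁻¹ = 1 ∨ t * w₂ * t⁻¹ * w₂⁻¹ = y
  mx : ∀ v, (v = w₁ ∨ v = w₂) → ∀ g ∈ R, g * v = v * g → g ∈ Ls
  /-- (1') -/
  one : ∀ M : Subgroup G, M ≤ U → (∀ X : Subgroup G, V ≤ X → R ≤ normalizer (X : Set G) → M ≤ X) →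
    R ≤ normalizer (M : Set G) → M ≤ centralizer (o2 R : Set G) → oddGen R ≤ centralizer (M : Set G)
  aA : a ∈ A
  Ac : ∀ b ∈ A, ∀ c ∈ A, b * c = c * b
  As : ∀ b ∈ A, b * b = 1
  A0T : A ⊓ centralizer (V : Set G) ≤ T
  idx : ∀ b ∈ A, b ∈ centralizer (V : Set G) ∨ b * a ∈ centralizer (V : Set G)
  aU : ∀ u ∈ U, a * u * a⁻¹ ∈ U
  aT : ∀ t ∈ T, t ∈ centralizer (V : Set G) → a * t * a⁻¹ ∈ T
  aw₁ : a * w₁ * a⁻¹ = w₂
  aw₂ : a * w₂ * a⁻¹ = w₁
  ax : a * x * a⁻¹ = w₁ * w₂ * x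
  ay : a * y * a⁻¹ = w₁ * w₂ * y
  best : ∀ X : Subgroup G, X ≤ U → V ≤ X →
    Nat.card X * Nat.card ↥(A ⊓ centralizer (X : Set G)) ≤ Nat.card A * Nat.card ↥(X ⊓ centralizer (A : Set G))
  best₀ : ∀ X : Subgroup G, X ≤ U → V ≤ X →
    Nat.card X * Nat.card ↥((A ⊓ centralizer (V : Set G)) ⊓ centralizer (X : Set G)) ≤
      Nat.card ↥(A ⊓ centralizer (V : Set G)) *
        Nat.card ↥(X ⊓ centralizer ((A ⊓ centralizer (V : Set G) : Subgroup G) : Set G))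

theorem comm_of_conj' {a b : G} (h : a * b * a⁻¹ = b) : a * b = b * a := mul_inv_eq_iff_eq_mul.1 h

theorem conj_of_comm {a b : G} (h : a * b = b * a) : a * b * a⁻¹ = b := by rw [h]; group

namespace Pr

variable [Finite G] {Ls T R U V A : Subgroup G} {x y w₁ w₂ a : G} (f : Pr Ls T R U V A x y w₁ w₂ a)
include f

theorem TR : T ≤ R := f.par.le

theorem xU : x ∈ U := f.VU f.xV

theorem yU : y ∈ U := f.VU f.yV

theorem w₁U : w₁ ∈ U := f.VU f.w₁V

theorem w₂U : w₂ ∈ U := f.VU f.w₂V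

theorem xx : x * x = 1 := f.Us x f.xU

theorem yy : y * y = 1 := f.Us y f.yU

theorem xyc : x * y = y * x := f.Uc x f.xU y f.yU

/-- the elements of `Z` -/
theorem mem_Z {z : G} (hz : z ∈ Zx x y) : z = 1 ∨ z = x ∨ z = y ∨ z = x * y := by
  have h1 : Zx x y ≤
      { carrier := {z | z = 1 ∨ z = x ∨ z = y ∨ z = x * y}
        one_mem' := Or.inl rfl
        mul_mem' := by
          have hx := f.xx
          have hy := f.yy
          have hc := f.xyc
          have m1 : x * (x * y) = y := by rw [← mul_assoc, hx, one_mul]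
          have m3 : y * (x * y) = x := by rw [hc, ← mul_assoc, hy, one_mul]
          have m4 : x * y * x = y := by rw [hc, mul_assoc, hx, mul_one]
          have m5 : x * y * y = x := by rw [mul_assoc, hy, mul_one]
          have m6 : x * y * (x * y) = 1 := by rw [mul_assoc, m3, hx]
          rintro g h (rfl | rfl | rfl | rfl) (rfl | rfl | rfl | rfl)
          · left; rw [mul_one]
          · right; left; rw [one_mul]
          · right; right; left; rw [one_mul]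
          · right; right; right; rw [one_mul]
          · right; left; rw [mul_one]
          · left; exact hx
          · right; right; right; rfl
          · right; right; left; exact m1
          · right; right; left; rw [mul_one]
          · right; right; right; exact hc.symm
          · left; exact hy
          · right; left; exact m3
          · right; right; right; rw [mul_one]
          · right; right; left; exact m4
          · right; left; exact m5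
          · left; exact m6
        inv_mem' := by
          have hx : x⁻¹ = x := inv_eq_of_mul_eq_one_left f.xx
          have hy : y⁻¹ = y := inv_eq_of_mul_eq_one_left f.yy
          rintro g (rfl | rfl | rfl | rfl)
          · left; exact inv_one
          · right; left; exact hx
          · right; right; left; exact hy
          · right; right; right; rw [mul_inv_rev, hx, hy, f.xyc] : Subgroup G } := by
    rw [Zx, closure_le]
    rintro z (rfl | rfl)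
    · exact Or.inr (Or.inl rfl)
    · exact Or.inr (Or.inr (Or.inl rfl))
  exact h1 hz

omit f in
theorem x_mem_Z : x ∈ Zx x y := subset_closure (Or.inl rfl)

omit f in
theorem y_mem_Z : y ∈ Zx x y := subset_closure (Or.inr rfl)

theorem ZV : Zx x y ≤ V := by
  rw [Zx, closure_le]
  rintro z (rfl | rfl)
  · exact f.xV
  · exact f.yV

theorem ZU : Zx x y ≤ U := f.ZV.trans f.VU

theorem RZ : R ≤ centralizer (Zx x y : Set G) := by
  intro r hr
  rw [mem_centralizer_iff]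
  intro z hz
  have hx := f.Rx r hr
  have hy := f.Ry r hr
  rcases f.mem_Z hz with rfl | rfl | rfl | rfl
  · rw [one_mul, mul_one]
  · exact hx.symm
  · exact hy.symm
  · rw [mul_assoc, ← hy, ← mul_assoc, ← hx, mul_assoc]

theorem conj_Z {r z : G} (hr : r ∈ R) (hz : z ∈ Zx x y) : r * z * r⁻¹ = z := by
  rw [← mem_centralizer_iff.1 (f.RZ hr) z hz, mul_inv_cancel_right]

theorem OT : o2 R ≤ T := ChoiceSit.o2_le_syl f.syl

theorem OR : o2 R ≤ R := f.OT.trans f.TR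

theorem conj_O {r b : G} (hr : r ∈ R) (hb : b ∈ o2 R) : r * b * r⁻¹ ∈ o2 R :=
  (mem_normalizer_iff.1 (MinSimple.VModule.le_normalizer_o2 R hr) b).1 hb

/-- A normal subgroup of `R` which does not supplement `T` is contained in `O₂(R)` up to odd elements. -/
theorem of_ne {N₀ : Subgroup G} (hN₀ : N₀ ≤ R) (hn : R ≤ normalizer (N₀ : Set G)) (hne : N₀ ⊔ T ≠ R) :
    T ⊓ N₀ ≤ o2 R := by
  have hfact : Fact (Nat.Prime 2) := ⟨Nat.prime_two⟩
  exact (f.par.sup_eq_or_inf_le f.T2 (syl_not_dvd f.syl) hN₀ hn).resolve_left hne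

theorem Mod_norm {w r e : G} (hr : r ∈ R) (he : e ∈ Mod (Zx x y) R w) : r * e * r⁻¹ ∈ Mod (Zx x y) R w :=
  Mod_conj (fun _ hr _ hd => by rw [f.conj_Z hr hd]; exact hd) hr he

theorem Mod_U {w : G} (hw : w ∈ U) : Mod (Zx x y) R w ≤ U :=
  Mod_le f.ZU fun r hr => f.RU r hr w hw

/-- `Z ⟨w ^ R⟩ ≤ ⟨V ^ R⟩` -/
theorem Mod_gen {w : G} (hw : w ∈ V) {X : Subgroup G} (hX : V ≤ X) (hR : R ≤ normalizer (X : Set G)) :
    Mod (Zx x y) R w ≤ X := by
  refine Mod_le ?_ fun r hr => (mem_normalizer_iff.1 (hR hr) w).1 (hX hw)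
  rw [Zx, closure_le]
  rintro _ (rfl | rfl)
  · exact hX f.xV
  · exact hX f.yV

/-- `O²(R)` moves `w₁` and `w₂`. -/
theorem mem_of_odd {v : G} (hv : v = w₁ ∨ v = w₂) (hc : ∀ g ∈ oddGen R, g * v = v * g) : v ∈ Zx x y := by
  exfalso
  have h1 : oddGen R ≤ Ls := fun g hg => f.mx v hv g (oddGen_le R hg) (hc g hg)
  have h2 : oddGen R ⊔ T = R := oddGen_sup f.syl
  exact f.nR (by rw [← h2]; exact sup_le h1 f.TLs)

/-- **(2)** `O₂(R)` moves `w₁` and `w₂`. -/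
theorem mem_of_O {v : G} (hv' : v = w₁ ∨ v = w₂) (hv : v ∈ V) (hvO : ∀ b ∈ o2 R, b * v = v * b) : v ∈ Zx x y := by
  have hM : R ≤ normalizer (Mod (Zx x y) R v : Set G) := norm_of fun r hr e he => f.Mod_norm hr he
  have h1 : Mod (Zx x y) R v ≤ centralizer (o2 R : Set G) := by
    refine Mod_le (fun d hd => mem_centralizer_iff.2 fun b hb => ?_) fun r hr => mem_centralizer_iff.2 fun b hb => ?_
    · exact comm_of_conj' (f.conj_Z (f.OR hb) hd)
    · have hb' := f.conj_O (inv_mem hr) hb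
      have h2 := hvO _ hb'
      calc b * (r * v * r⁻¹) = r * ((r⁻¹ * b * r⁻¹⁻¹) * v) * r⁻¹ := by group
        _ = r * (v * (r⁻¹ * b * r⁻¹⁻¹)) * r⁻¹ := by rw [h2]
        _ = r * v * r⁻¹ * b := by group
  have h2 := f.one _ (f.Mod_U (f.VU hv)) (fun X hX hR => f.Mod_gen hv hX hR) hM h1
  refine f.mem_of_odd hv' fun g hg => ?_
  exact (mem_centralizer_iff.1 (h2 hg) v (mem_Mod _ _ _)).symm

/-- an element of odd order which acts on `w` modulo its centraliser in `U` centralises `w` -/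
theorem comm_of_odd {g w i : G} (ho : Odd (orderOf g)) (hi : i * i = 1) (hgi : g * i = i * g)
    (h : g * w * g⁻¹ = i * w) : g * w = w * g := by
  have key : ∀ n : ℕ, g ^ n * w * (g ^ n)⁻¹ = i ^ n * w := by
    intro n
    induction n with
    | zero => simp
    | succ n ih =>
      have hc : g * i ^ n = i ^ n * g := ((show Commute g i from hgi).pow_right n).eq
      calc g ^ (n + 1) * w * (g ^ (n + 1))⁻¹ = g * (g ^ n * w * (g ^ n)⁻¹) * g⁻¹ := by rw [pow_succ']; group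
        _ = g * i ^ n * w * g⁻¹ := by rw [ih]; group
        _ = i ^ n * (g * w * g⁻¹) := by rw [hc]; group
        _ = i ^ n * i * w := by rw [h]; group
        _ = i ^ (n + 1) * w := by rw [pow_succ]
  have h1 := key (orderOf g)
  rw [pow_orderOf_eq_one] at h1
  obtain ⟨k, hk⟩ := ho
  have h2 : i ^ orderOf g = i := by
    rw [hk, pow_succ, pow_mul, pow_two, hi, one_pow, one_mul]
  rw [h2] at h1
  have h3 : i = 1 := by
    have : w = i * w := by simpa using h1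
    exact (right_eq_mul.1 this : i = 1)
  rw [h3, one_mul] at h
  exact comm_of_conj' h

/-- **(3)** -/
theorem three {w : G} (hw : w = w₁ ∨ w = w₂) (hwZ : w ∉ Zx x y) {I : Subgroup G} (hIU : I ≤ U)
    (hIg : ∀ X : Subgroup G, V ≤ X → R ≤ normalizer (X : Set G) → I ≤ X)
    (hI : ∀ r ∈ R, ∀ e ∈ I, r * e * r⁻¹ ∈ I) (hIO : ∀ e ∈ I, ∀ b ∈ o2 R, b * e = e * b) :
    ∃ r ∈ R, r * w * r⁻¹ * w⁻¹ ∉ I := by
  by_contra hcon
  push Not at hcon
  have h1 := f.one I hIU hIg (norm_of hI) fun e he => mem_centralizer_iff.2 fun b hb => hIO e he b hb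
  apply hwZ
  refine f.mem_of_odd hw ?_
  have h2 : oddGen R ≤ centralizer ({w} : Set G) := by
    rw [MinSimple.VModule.oddGen_def, closure_le]
    rintro g ⟨hg, ho⟩
    have hgO : g ∈ oddGen R := mem_oddGen hg ho
    have hi := hcon g hg
    have hiU := hIU hi
    refine mem_centralizer_singleton_iff.2 ?_
    refine f.comm_of_odd ho (f.Us _ hiU) ?_ (i := g * w * g⁻¹ * w⁻¹) (by group)
    exact (mem_centralizer_iff.1 (h1 hgO) _ hi).symm
  exact fun g hg => mem_centralizer_singleton_iff.1 (h2 hg)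

/-- the kernel of `R` on `M / I` -/
theorem mem_O' {M I : Subgroup G} (hM : ∀ r ∈ R, ∀ e ∈ M, r * e * r⁻¹ ∈ M) (hI : ∀ r ∈ R, ∀ e ∈ I, r * e * r⁻¹ ∈ I)
    {w : G} (hw : w ∈ M) (hwT : ∀ t ∈ T, t * w * t⁻¹ * w⁻¹ ∈ I) (hwR : ∃ r ∈ R, r * w * r⁻¹ * w⁻¹ ∉ I) {b : G}
    (hb : b ∈ T) (hc : ∀ e ∈ M, b * e * b⁻¹ * e⁻¹ ∈ I) : b ∈ o2 R := by
  let N : Subgroup G :=
    { carrier := {r | r ∈ R ∧ ∀ e ∈ M, r * e * r⁻¹ * e⁻¹ ∈ I}
      one_mem' := ⟨one_mem _, fun e _ => by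
        have : (1 : G) * e * 1⁻¹ * e⁻¹ = 1 := by group
        rw [this]; exact one_mem _⟩
      mul_mem' := by
        rintro r s ⟨hr, h2⟩ ⟨hs, h3⟩
        refine ⟨mul_mem hr hs, fun e he => ?_⟩
        have h4 : (r * s) * e * (r * s)⁻¹ * e⁻¹ = r * (s * e * s⁻¹ * e⁻¹) * r⁻¹ * (r * e * r⁻¹ * e⁻¹) := by group
        rw [h4]
        exact mul_mem (hI r hr _ (h3 e he)) (h2 e he)
      inv_mem' := by
        rintro r ⟨hr, h2⟩
        refine ⟨inv_mem hr, fun e he => ?_⟩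
        have h3 : r⁻¹ * e * r⁻¹⁻¹ ∈ M := hM _ (inv_mem hr) e he
        have h4 := h2 _ h3
        have h5 : r * (r⁻¹ * e * r⁻¹⁻¹) * r⁻¹ * (r⁻¹ * e * r⁻¹⁻¹)⁻¹ = (r⁻¹ * e * r⁻¹⁻¹ * e⁻¹)⁻¹ := by group
        rw [h5] at h4
        have := inv_mem h4
        rwa [inv_inv] at this }
  have hNR : N ≤ R := fun r hr => hr.1
  have hNn : R ≤ normalizer (N : Set G) := by
    refine norm_of fun r hr s hs => ?_
    refine ⟨R.mul_mem (R.mul_mem hr hs.1) (R.inv_mem hr), fun e he => ?_⟩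
    have h3 : r⁻¹ * e * r⁻¹⁻¹ ∈ M := hM _ (inv_mem hr) e he
    have h4 := hs.2 _ h3
    have h5 : r * s * r⁻¹ * e * (r * s * r⁻¹)⁻¹ * e⁻¹ =
        r * (s * (r⁻¹ * e * r⁻¹⁻¹) * s⁻¹ * (r⁻¹ * e * r⁻¹⁻¹)⁻¹) * r⁻¹ := by group
    rw [h5]
    exact hI r hr _ h4
  refine (f.of_ne hNR hNn fun h0 => ?_) ⟨hb, f.TR hb, hc⟩
  obtain ⟨r, hr, hrw⟩ := hwR
  apply hrw
  have hTN : T ≤ normalizer (N : Set G) := f.TR.trans hNn
  rw [← h0, sup_comm] at hr
  obtain ⟨t, ht, n, hn, rfl⟩ : ∃ t ∈ T, ∃ n ∈ N, r = t * n := SQ1.Bau.mem_sup_norm hTN hr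
  have e1 : (t * n) * w * (t * n)⁻¹ * w⁻¹ = t * (n * w * n⁻¹ * w⁻¹) * t⁻¹ * (t * w * t⁻¹ * w⁻¹) := by group
  rw [e1]
  exact mul_mem (hI t (f.TR ht) _ (hn.2 w hw)) (hwT t ht)

theorem cprod {b e e' : G} (hb : b ∈ R) (he : e ∈ U) (he' : e' ∈ U) :
    b * (e * e') * b⁻¹ * (e * e')⁻¹ = (b * e * b⁻¹ * e⁻¹) * (b * e' * b⁻¹ * e'⁻¹) :=
  comm_prod (f.Uc _ he _ (mul_mem (f.RU b hb e' he') (inv_mem he')))

/-- the commutators with `O₂(R)` -/
theorem comm_Mod {w z : G} (hw : w ∈ U) (hz : z ∈ Zx x y)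
    (hc : ∀ t ∈ T, t * w * t⁻¹ * w⁻¹ = 1 ∨ t * w * t⁻¹ * w⁻¹ = z)
    {b e : G} (hb : b ∈ o2 R) (he : e ∈ Mod (Zx x y) R w) : b * e * b⁻¹ * e⁻¹ = 1 ∨ b * e * b⁻¹ * e⁻¹ = z := by
  have hzz : z * z = 1 := f.Us _ (f.ZU hz)
  have hOR : o2 R ≤ R := f.OR
  let K : Subgroup G :=
    { carrier := {e | e ∈ U ∧ ∀ b ∈ o2 R, b * e * b⁻¹ * e⁻¹ = 1 ∨ b * e * b⁻¹ * e⁻¹ = z}
      one_mem' := ⟨one_mem _, fun b _ => Or.inl (by group)⟩
      mul_mem' := by
        rintro e e' ⟨he, h2⟩ ⟨he', h3⟩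
        refine ⟨mul_mem he he', fun b hb => ?_⟩
        rw [f.cprod (hOR hb) he he']
        rcases h2 b hb with h6 | h6 <;> rcases h3 b hb with h7 | h7 <;> rw [h6, h7]
        · left; rw [one_mul]
        · right; rw [one_mul]
        · right; rw [mul_one]
        · left; exact hzz
      inv_mem' := by
        rintro e ⟨he, h2⟩
        refine ⟨inv_mem he, fun b hb => ?_⟩
        have hei : e⁻¹ = e := inv_eq_of_mul_eq_one_left (f.Us e he)
        rw [hei]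
        exact h2 b hb }
  have h1 : Mod (Zx x y) R w ≤ K := by
    refine Mod_le (fun d hd => ⟨f.ZU hd, fun b hb => Or.inl ?_⟩) fun r hr => ?_
    · rw [f.conj_Z (hOR hb) hd, mul_inv_cancel]
    · refine ⟨f.RU r hr w hw, fun b hb => ?_⟩
      have hb' : r⁻¹ * b * r⁻¹⁻¹ ∈ o2 R := f.conj_O (inv_mem hr) hb
      have e1 : b * (r * w * r⁻¹) * b⁻¹ * (r * w * r⁻¹)⁻¹ =
          r * ((r⁻¹ * b * r⁻¹⁻¹) * w * (r⁻¹ * b * r⁻¹⁻¹)⁻¹ * w⁻¹) * r⁻¹ := by group
      rw [e1]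
      rcases hc _ (f.OT hb') with h2 | h2
      · left; rw [h2]; group
      · right; rw [h2, f.conj_Z hr hz]
  exact (h1 he).2 b hb

/-- `[V, T] ≤ Z` -/
theorem TV {t v : G} (ht : t ∈ T) (hv : v ∈ V) : t * v * t⁻¹ * v⁻¹ ∈ Zx x y := by
  have htR := f.TR ht
  let K : Subgroup G :=
    { carrier := {e | e ∈ U ∧ t * e * t⁻¹ * e⁻¹ ∈ Zx x y}
      one_mem' := ⟨one_mem _, by
        have : t * 1 * t⁻¹ * (1 : G)⁻¹ = 1 := by group
        rw [this]; exact one_mem _⟩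
      mul_mem' := by
        rintro e e' ⟨he, h2⟩ ⟨he', h3⟩
        refine ⟨mul_mem he he', ?_⟩
        rw [f.cprod htR he he']
        exact mul_mem h2 h3
      inv_mem' := by
        rintro e ⟨he, h2⟩
        have hei : e⁻¹ = e := inv_eq_of_mul_eq_one_left (f.Us e he)
        rw [hei]
        exact ⟨he, h2⟩ }
  have h1 : closure {x, y, w₁, w₂} ≤ K := by
    rw [closure_le]
    rintro z (rfl | rfl | rfl | rfl)
    · refine ⟨f.xU, ?_⟩
      rw [f.conj_Z htR x_mem_Z, mul_inv_cancel]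
      exact one_mem _
    · refine ⟨f.yU, ?_⟩
      rw [f.conj_Z htR y_mem_Z, mul_inv_cancel]
      exact one_mem _
    · refine ⟨f.w₁U, ?_⟩
      rcases f.Tw₁ t ht with h | h <;> rw [h]
      · exact one_mem _
      · exact x_mem_Z
    · refine ⟨f.w₂U, ?_⟩
      rcases f.Tw₂ t ht with h | h <;> rw [h]
      · exact one_mem _
      · exact y_mem_Z
  exact (h1 (f.gen hv)).2

/-- `C_{O₂(R)}(V)` does not centralise `E₁`. -/
theorem mv {w z : G} (hw' : w = w₁ ∨ w = w₂) (hw : w ∈ V) (hwZ : w ∉ Zx x y) (hz : z ∈ Zx x y)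
    (hTw : ∀ t ∈ T, t * w * t⁻¹ * w⁻¹ = 1 ∨ t * w * t⁻¹ * w⁻¹ = z) :
    ∃ e ∈ Mod (Zx x y) R w, ∃ q ∈ centralizer (V : Set G) ⊓ o2 R, q * e ≠ e * q := by
  by_contra hcon
  push Not at hcon
  set M := Mod (Zx x y) R w with hM
  have hRM : ∀ r ∈ R, ∀ e ∈ M, r * e * r⁻¹ ∈ M := fun r hr e he => f.Mod_norm hr he
  have hMU : M ≤ U := f.Mod_U (f.VU hw)
  have hI : ∀ r ∈ R, ∀ e ∈ M ⊓ centralizer (o2 R : Set G), r * e * r⁻¹ ∈ M ⊓ centralizer (o2 R : Set G) := by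
    rintro r hr e ⟨he, hec⟩
    refine ⟨hRM r hr e he, mem_centralizer_iff.2 fun b hb => ?_⟩
    have h2 := mem_centralizer_iff.1 hec _ (f.conj_O (inv_mem hr) hb)
    calc b * (r * e * r⁻¹) = r * ((r⁻¹ * b * r⁻¹⁻¹) * e) * r⁻¹ := by group
      _ = r * (e * (r⁻¹ * b * r⁻¹⁻¹)) * r⁻¹ := by rw [h2]
      _ = r * e * r⁻¹ * b := by group
  have h3 := f.three hw' hwZ (I := M ⊓ centralizer (o2 R : Set G)) (inf_le_left.trans hMU)
    (fun X hX hR => inf_le_left.trans (f.Mod_gen hw hX hR)) hI fun e he b hb => mem_centralizer_iff.1 he.2 b hb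
  have hcE := fun (b : G) (hb : b ∈ o2 R) (e : G) (he : e ∈ M) => f.comm_Mod (f.VU hw) hz hTw hb he
  -- `T` acts trivially on `M / C_M(O)`
  have hT : ∀ t ∈ T, ∀ e ∈ M, t * e * t⁻¹ * e⁻¹ ∈ M ⊓ centralizer (o2 R : Set G) := by
    intro t ht e he
    have htR := f.TR ht
    have het := hRM t htR e he
    refine ⟨M.mul_mem het (M.inv_mem he), mem_centralizer_iff.2 fun b hb => ?_⟩
    set b' := t⁻¹ * b * t⁻¹⁻¹ with hb'
    have hb'O : b' ∈ o2 R := f.conj_O (inv_mem htR) hb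
    have hbT := f.OT hb
    have hcO : b⁻¹ * b' ∈ o2 R := mul_mem (inv_mem hb) hb'O
    have hcV : ∀ v ∈ V, (b⁻¹ * b') * v * (b⁻¹ * b')⁻¹ = v := by
      intro v hv
      have g1 := f.TV ht hv
      have g2 : ∀ s ∈ T, ∀ d ∈ Zx x y, s * d * s⁻¹ = d := fun s hs d hd => f.conj_Z (f.TR hs) hd
      have g3 := f.TV hbT hv
      have g4 : t * v * t⁻¹ = (t * v * t⁻¹ * v⁻¹) * v := by group
      have g5 : b * v * b⁻¹ = (b * v * b⁻¹ * v⁻¹) * v := by group
      have g6 : b' * v * b'⁻¹ = b * v * b⁻¹ := by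
        have e1 : b' * v * b'⁻¹ = t⁻¹ * (b * (t * v * t⁻¹) * b⁻¹) * t := by rw [hb']; group
        have e2 : b * (t * v * t⁻¹) * b⁻¹ = (t * v * t⁻¹ * v⁻¹) * (b * v * b⁻¹) := by
          calc b * (t * v * t⁻¹) * b⁻¹ = (b * (t * v * t⁻¹ * v⁻¹) * b⁻¹) * (b * v * b⁻¹) := by group
            _ = _ := by rw [g2 b hbT _ g1]
        have e3 : t⁻¹ * ((t * v * t⁻¹ * v⁻¹) * (b * v * b⁻¹)) * t =
            (t⁻¹ * (t * v * t⁻¹ * v⁻¹) * t⁻¹⁻¹) * (t⁻¹ * (b * v * b⁻¹ * v⁻¹) * t⁻¹⁻¹) * (t⁻¹ * v * t) := by group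
        rw [e1, e2, e3, g2 _ (inv_mem ht) _ g1, g2 _ (inv_mem ht) _ g3]
        have e4 : t⁻¹ * v * t = t⁻¹ * (t * v * t⁻¹ * v⁻¹)⁻¹ * t⁻¹⁻¹ * v := by group
        rw [e4, g2 _ (inv_mem ht) _ (inv_mem g1)]
        have e5 : (t * v * t⁻¹ * v⁻¹) * (b * v * b⁻¹ * v⁻¹) = (b * v * b⁻¹ * v⁻¹) * (t * v * t⁻¹ * v⁻¹) :=
          f.Uc _ (f.ZU g1) _ (f.ZU g3)
        rw [e5]
        group
      calc (b⁻¹ * b') * v * (b⁻¹ * b')⁻¹ = b⁻¹ * (b' * v * b'⁻¹) * b := by group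
        _ = b⁻¹ * (b * v * b⁻¹) * b := by rw [g6]
        _ = v := by group
    have hcc : ∀ e ∈ M, (b⁻¹ * b') * e * (b⁻¹ * b')⁻¹ = e := fun e he => by
      rw [hcon e he _ ⟨mem_centralizer_iff.2 fun v hv => (comm_of_conj' (hcV v hv)).symm, hcO⟩,
        mul_inv_cancel_right]
    have h4 : b' * e * b'⁻¹ = b * e * b⁻¹ := by
      calc b' * e * b'⁻¹ = b * ((b⁻¹ * b') * e * (b⁻¹ * b')⁻¹) * b⁻¹ := by group
        _ = b * e * b⁻¹ := by rw [hcc e he]
    have h5 : b * e * b⁻¹ * e⁻¹ ∈ Zx x y := by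
      rcases hcE b hb e he with h6 | h6 <;> rw [h6]
      · exact one_mem _
      · exact hz
    have h6 : b * (t * e * t⁻¹) * b⁻¹ = (b * e * b⁻¹ * e⁻¹) * (t * e * t⁻¹) := by
      calc b * (t * e * t⁻¹) * b⁻¹ = t * (b' * e * b'⁻¹) * t⁻¹ := by rw [hb']; group
        _ = t * (b * e * b⁻¹ * e⁻¹) * t⁻¹ * (t * e * t⁻¹) := by rw [h4]; group
        _ = _ := by rw [f.conj_Z htR h5]
    refine comm_of_conj' ?_
    have h7 : b * (t * e * t⁻¹ * e⁻¹) * b⁻¹ = b * (t * e * t⁻¹) * b⁻¹ * (b * e * b⁻¹)⁻¹ := by group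
    rw [h7, h6]
    have h8 : (b * e * b⁻¹ * e⁻¹) * (t * e * t⁻¹) = (t * e * t⁻¹) * (b * e * b⁻¹ * e⁻¹) :=
      f.Uc _ (f.ZU h5) _ (hMU het)
    rw [h8]
    have h9 : (b * e * b⁻¹ * e⁻¹) * (b * e * b⁻¹)⁻¹ = e⁻¹ := by
      have h10 : (b * e * b⁻¹) * e⁻¹ = e⁻¹ * (b * e * b⁻¹) :=
        f.Uc _ (hMU (hRM b (f.OR hb) e he)) _ (inv_mem (hMU he))
      rw [h10]; group
    rw [mul_assoc, h9]
  -- so `T ≤ O`
  have hTO : T ≤ o2 R := fun t ht => f.mem_O' hRM hI (mem_Mod _ _ _) (fun t ht => hT t ht _ (mem_Mod _ _ _)) h3 ht (hT t ht)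
  have hTe : o2 R = T := le_antisymm f.OT hTO
  exact f.nR fun r hr => f.nrm r hr (by rw [← hTe]; exact MinSimple.VModule.le_normalizer_o2 R hr)




/-- the fixed points of `A₀` on `M / I` -/
theorem exists_fixed {A₀ M I : Subgroup G} (hA : A₀ ≤ R) (hMU : M ≤ U) :
    ∃ F₁ : Subgroup G, ∀ e, e ∈ F₁ ↔ e ∈ M ∧ ∀ b ∈ A₀, b * e * b⁻¹ * e⁻¹ ∈ I := by
  refine ⟨{ carrier := {e | e ∈ M ∧ ∀ b ∈ A₀, b * e * b⁻¹ * e⁻¹ ∈ I}
            one_mem' := ⟨one_mem _, fun b _ => by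
              have : b * 1 * b⁻¹ * (1 : G)⁻¹ = 1 := by group
              rw [this]; exact one_mem _⟩
            mul_mem' := ?_
            inv_mem' := ?_ }, fun e => Iff.rfl⟩
  · rintro e e' ⟨he, h1⟩ ⟨he', h2⟩
    refine ⟨mul_mem he he', fun b hb => ?_⟩
    rw [f.cprod (hA hb) (hMU he) (hMU he')]
    exact mul_mem (h1 b hb) (h2 b hb)
  · rintro e ⟨he, h1⟩
    have hei : e⁻¹ = e := inv_eq_of_mul_eq_one_left (f.Us e (hMU he))
    rw [hei]
    exact ⟨he, h1⟩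

theorem a_inv : a⁻¹ = a := inv_eq_of_mul_eq_one_left (f.As a f.aA)

/-- `a` normalises `V` -/
theorem a_V {v : G} (hv : v ∈ V) : a * v * a⁻¹ ∈ V := by
  have h1 : V ≤ V.comap (MulAut.conj a).toMonoidHom := by
    refine f.gen.trans ?_
    rw [closure_le]
    rintro z (rfl | rfl | rfl | rfl)
    · change a * z * a⁻¹ ∈ V
      rw [f.ax]
      exact mul_mem (mul_mem f.w₁V f.w₂V) f.xV
    · change a * z * a⁻¹ ∈ V
      rw [f.ay]
      exact mul_mem (mul_mem f.w₁V f.w₂V) f.yV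
    · change a * z * a⁻¹ ∈ V
      rw [f.aw₁]
      exact f.w₂V
    · change a * z * a⁻¹ ∈ V
      rw [f.aw₂]
      exact f.w₁V
  exact h1 hv

/-- `|A| ≤ 2 |A₀|` -/
theorem card_A : Nat.card A ≤ 2 * Nat.card ↥(A ⊓ centralizer (V : Set G)) := by
  set A0 := A ⊓ centralizer (V : Set G) with hA0
  have h1 : A ≤ A0 ⊔ zpowers a := by
    intro b hb
    rcases f.idx b hb with h | h
    · exact mem_sup_left ⟨hb, h⟩
    · have h2 : b = b * a * a := by rw [mul_assoc, f.As a f.aA, mul_one]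
      rw [h2]
      exact mul_mem (mem_sup_left ⟨mul_mem hb f.aA, h⟩) (mem_sup_right (mem_zpowers a))
  have hc : ∀ b ∈ A0, ∀ c ∈ zpowers a, b * c = c * b := by
    intro b hb c hc
    obtain ⟨n, rfl⟩ := mem_zpowers_iff.1 hc
    exact ((show Commute b a from f.Ac b hb.1 a f.aA).zpow_right n).eq
  have h2 := card_sup_comm hc
  have h3 : Nat.card (zpowers a) ≤ 2 := by
    rw [Nat.card_zpowers]
    exact Nat.le_of_dvd (by norm_num) (orderOf_dvd_of_pow_eq_one (by rw [pow_two, f.As a f.aA]))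
  have h4 := Subgroup.card_le_of_le h1
  have h5 : 1 ≤ Nat.card ↥(A0 ⊓ zpowers a) := Nat.card_pos
  calc Nat.card A ≤ Nat.card ↥(A0 ⊔ zpowers a) := h4
    _ ≤ Nat.card ↥(A0 ⊔ zpowers a) * Nat.card ↥(A0 ⊓ zpowers a) := Nat.le_mul_of_pos_right _ h5
    _ = Nat.card A0 * Nat.card (zpowers a) := h2
    _ ≤ Nat.card A0 * 2 := Nat.mul_le_mul_left _ h3
    _ = 2 * Nat.card A0 := mul_comm _ _

/-- `X = V C_X(A)` if `A₀` centralises `X`. -/
theorem act {X : Subgroup G} (hXU : X ≤ U) (hVX : V ≤ X)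
    (hc : ∀ b ∈ A ⊓ centralizer (V : Set G), ∀ e ∈ X, b * e = e * b) {e : G} (he : e ∈ X) :
    ∃ v ∈ V, a * e * a⁻¹ = e * v := by
  set A0 := A ⊓ centralizer (V : Set G) with hA0
  set C := X ⊓ centralizer (A : Set G) with hC
  have h1 := f.best X hXU hVX
  have h2 : A0 ≤ A ⊓ centralizer (X : Set G) := fun b hb =>
    ⟨hb.1, mem_centralizer_iff.2 fun e he => (hc b hb e he).symm⟩
  have hA0p : 0 < Nat.card A0 := Nat.card_pos
  have h3 : Nat.card X ≤ 2 * Nat.card C := by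
    have h4 : Nat.card A0 * Nat.card X ≤ Nat.card A0 * (2 * Nat.card C) := by
      calc Nat.card A0 * Nat.card X ≤ Nat.card ↥(A ⊓ centralizer (X : Set G)) * Nat.card X :=
            Nat.mul_le_mul_right _ (Subgroup.card_le_of_le h2)
        _ = Nat.card X * Nat.card ↥(A ⊓ centralizer (X : Set G)) := mul_comm _ _
        _ ≤ Nat.card A * Nat.card C := h1
        _ ≤ 2 * Nat.card A0 * Nat.card C := Nat.mul_le_mul_right _ f.card_A
        _ = Nat.card A0 * (2 * Nat.card C) := by ring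
    exact Nat.le_of_mul_le_mul_left h4 hA0p
  have hcm : ∀ v ∈ V, ∀ c ∈ C, v * c = c * v := fun v hv c hc' => f.Uc v (f.VU hv) c (hXU hc'.1)
  have h6 : ¬ V ⊔ C ≤ C := fun hle => by
    have h7 := mem_centralizer_iff.1 (hle (mem_sup_left f.w₁V)).2 a f.aA
    have h8 := f.aw₁
    rw [conj_of_comm h7] at h8
    apply f.wZ
    rw [← h8, f.Us _ f.w₁U]
    exact one_mem _
  obtain ⟨g, hg, hgC⟩ := SetLike.not_le_iff_exists.1 h6
  have h7 := two_card_le (Z := C) (Y := V ⊔ C) le_sup_right hg hgC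
  have h8 : V ⊔ C = X := Subgroup.eq_of_le_of_card_ge (sup_le hVX inf_le_left) (h3.trans h7)
  rw [← h8] at he
  obtain ⟨v, hv, c, hc', rfl⟩ := mem_sup_comm hcm he
  have hca : a * c * a⁻¹ = c := by
    rw [mem_centralizer_iff.1 hc'.2 a f.aA, mul_inv_cancel_right]
  refine ⟨v⁻¹ * (a * v * a⁻¹), mul_mem (inv_mem hv) (f.a_V hv), ?_⟩
  have e1 : a * (v * c) * a⁻¹ = a * v * a⁻¹ * (a * c * a⁻¹) := by group
  rw [e1, hca]
  have e2 : v * c * (v⁻¹ * (a * v * a⁻¹)) = c * (a * v * a⁻¹) := by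
    rw [hcm v hv c hc']; group
  rw [e2]
  exact f.Uc _ (f.VU (f.a_V hv)) _ (hXU hc'.1)

/-- **TWO PAIRS, (A) of #25060.** -/
theorem false_of : False := by
  classical
  set A0 := A ⊓ centralizer (V : Set G) with hA0
  have hA0T : A0 ≤ T := f.A0T
  have hA0R : A0 ≤ R := hA0T.trans f.TR
  set E₁ := Mod (Zx x y) R w₁ with hE₁
  set E₂ := Mod (Zx x y) R w₂ with hE₂
  have hE1U : E₁ ≤ U := f.Mod_U f.w₁U
  have hE2U : E₂ ≤ U := f.Mod_U f.w₂U
  set I := E₁ ⊓ E₂ with hI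
  have hIR : ∀ r ∈ R, ∀ e ∈ I, r * e * r⁻¹ ∈ I := fun r hr e he => ⟨f.Mod_norm hr he.1, f.Mod_norm hr he.2⟩
  have hDI : Zx x y ≤ I := le_inf (D_le_Mod _ _ _) (D_le_Mod _ _ _)
  have hxx := f.xx
  have hyy := f.yy
  have hxy := f.xyc
  have hx1 := f.x1
  have hy1 := f.y1
  have hne := f.xy
  -- commutators
  have cE1 : ∀ b ∈ o2 R, ∀ e ∈ E₁, b * e * b⁻¹ * e⁻¹ = 1 ∨ b * e * b⁻¹ * e⁻¹ = x := fun b hb e he =>
    f.comm_Mod f.w₁U x_mem_Z f.Tw₁ hb he
  have cE2 : ∀ b ∈ o2 R, ∀ e ∈ E₂, b * e * b⁻¹ * e⁻¹ = 1 ∨ b * e * b⁻¹ * e⁻¹ = y := fun b hb e he =>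
    f.comm_Mod f.w₂U y_mem_Z f.Tw₂ hb he
  have hIO : ∀ e ∈ I, ∀ b ∈ o2 R, b * e = e * b := by
    intro e he b hb
    rw [← comm_iff]
    rcases cE1 b hb e he.1 with h1 | h1
    · exact h1
    · rcases cE2 b hb e he.2 with h2 | h2
      · exact h2
      · exfalso
        rw [h1] at h2
        exact hne h2
  obtain ⟨F₁, hF₁⟩ := f.exists_fixed (I := I) hA0R hE1U
  obtain ⟨F₂, hF₂⟩ := f.exists_fixed (I := I) hA0R hE2U
  -- no over-offender
  have key : ∀ {w z : G} {F₀ : Subgroup G}, (w = w₁ ∨ w = w₂) → w ∈ V → w ∉ Zx x y → z ∈ Zx x y →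
      (∀ t ∈ T, t * w * t⁻¹ * w⁻¹ = 1 ∨ t * w * t⁻¹ * w⁻¹ = z) →
      I ≤ Mod (Zx x y) R w → (∀ e, e ∈ F₀ ↔ e ∈ Mod (Zx x y) R w ∧ ∀ b ∈ A0, b * e * b⁻¹ * e⁻¹ ∈ I) →
      (o2 R).relIndex A0 * Nat.card F₀ ≤ Nat.card (Mod (Zx x y) R w) := by
    intro w z F₀ hw' hw hwZ hz hTw hle hF₀
    have hMU : Mod (Zx x y) R w ≤ U := f.Mod_U (f.VU hw)
    have hT : ∀ t ∈ T, t * w * t⁻¹ * w⁻¹ ∈ I := by
      intro t ht
      apply hDI
      rcases hTw t ht with h1 | h1 <;> rw [h1]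
      · exact one_mem _
      · exact hz
    have hR := f.three hw' hwZ (hle.trans hMU) (fun X hX hR => hle.trans (f.Mod_gen hw hX hR)) hIR hIO
    refine noOver f.syl f.par hle (fun v hv w hw => f.Uc _ (hMU hv) _ (hMU hw)) (fun v hv => f.Us _ (hMU hv))
      hIR (fun r hr e he => f.Mod_norm hr he) (mem_Mod _ _ _) hT hR (fun K hK1 hK2 => Mod_le (hDI.trans hK1) hK2) hA0R
      (fun a ha b hb => f.Ac a ha.1 b hb.1) (fun a ha => f.As a ha.1) (fun a ha hc => ?_) hF₀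
    exact f.mem_O' (fun r hr e he => f.Mod_norm hr he) hIR (mem_Mod _ _ _) hT hR (hA0T ha) hc
  have k1 := key (Or.inl rfl) f.w₁V f.w₁Z x_mem_Z f.Tw₁ inf_le_left hF₁
  have k2 := key (Or.inr rfl) f.w₂V f.w₂Z y_mem_Z f.Tw₂ inf_le_right hF₂
  set B₁ := A0 ⊓ o2 R with hB₁
  obtain ⟨κ, hκd⟩ : ∃ κ, κ = (o2 R).relIndex A0 := ⟨_, rfl⟩
  rw [← hκd] at k1 k2
  have hκ : κ * Nat.card B₁ = Nat.card A0 := by
    rw [hκd, hB₁]
    have h1 : Nat.card ↥(A0 ⊓ o2 R) * (A0 ⊓ o2 R).relIndex A0 = Nat.card A0 := by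
      have := Subgroup.relIndex_mul_relIndex ⊥ (A0 ⊓ o2 R) A0 bot_le inf_le_left
      rwa [relIndex_bot_left, relIndex_bot_left] at this
    rw [← h1, inf_relIndex_left, mul_comm]
  -- `E`
  set E := V ⊔ (E₁ ⊔ E₂) with hE
  have hEU : E ≤ U := sup_le f.VU (sup_le hE1U hE2U)
  have hA0V : ∀ b ∈ A0, ∀ v ∈ V, b * v = v * b := fun b hb v hv => (mem_centralizer_iff.1 hb.2 v hv).symm
  have hmE : ∀ e ∈ E, ∃ v ∈ V, ∃ e₁ ∈ E₁, ∃ e₂ ∈ E₂, e = v * (e₁ * e₂) := by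
    intro e he
    obtain ⟨v, hv, w, hw, rfl⟩ := mem_sup_comm (fun x hx y hy => f.Uc _ (f.VU hx) _ (sup_le hE1U hE2U hy)) he
    obtain ⟨e₁, he₁, e₂, he₂, rfl⟩ := mem_sup_comm (fun x hx y hy => f.Uc _ (hE1U hx) _ (hE2U hy)) hw
    exact ⟨v, hv, e₁, he₁, e₂, he₂, rfl⟩
  have cE : ∀ b ∈ B₁, ∀ e ∈ E, b * e * b⁻¹ * e⁻¹ = 1 ∨ b * e * b⁻¹ * e⁻¹ = x ∨ b * e * b⁻¹ * e⁻¹ = y ∨
      b * e * b⁻¹ * e⁻¹ = x * y := by
    intro b hb e he
    obtain ⟨v, hv, e₁, he₁, e₂, he₂, rfl⟩ := hmE e he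
    have hbR := hA0R hb.1
    rw [f.cprod hbR (f.VU hv) (mul_mem (hE1U he₁) (hE2U he₂)), f.cprod hbR (hE1U he₁) (hE2U he₂),
      comm_iff.2 (hA0V b hb.1 v hv), one_mul]
    rcases cE1 b hb.2 e₁ he₁ with h4 | h4 <;> rcases cE2 b hb.2 e₂ he₂ with h5 | h5 <;> rw [h4, h5]
    · left; rw [one_mul]
    · right; right; left; rw [one_mul]
    · right; left; rw [mul_one]
    · right; right; right; rfl
  have hcZ : ∀ b ∈ B₁, ∀ e ∈ E, b * e * b⁻¹ * e⁻¹ ∈ Zx x y := by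
    intro b hb e he
    rcases cE b hb e he with h4 | h4 | h4 | h4 <;> rw [h4]
    · exact one_mem _
    · exact x_mem_Z
    · exact y_mem_Z
    · exact mul_mem x_mem_Z y_mem_Z
  have nE1 : ∀ b ∈ A0, ∀ e ∈ E₁, b * e * b⁻¹ ∈ E₁ := fun b hb e he => f.Mod_norm (hA0R hb) he
  have nE2 : ∀ b ∈ A0, ∀ e ∈ E₂, b * e * b⁻¹ ∈ E₂ := fun b hb e he => f.Mod_norm (hA0R hb) he
  have hE1E : E₁ ≤ E := le_sup_left.trans le_sup_right
  have hE2E : E₂ ≤ E := le_sup_right.trans le_sup_right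
  have hVE : V ≤ E := le_sup_left
  -- centralisers lie in `O`
  have hcO : ∀ b ∈ A0, (∀ e ∈ E, b * e = e * b) → b ∈ B₁ := by
    intro b hb hbe
    refine ⟨hb, ?_⟩
    have hT : ∀ t ∈ T, t * w₁ * t⁻¹ * w₁⁻¹ ∈ I := by
      intro t ht
      apply hDI
      rcases f.Tw₁ t ht with h1 | h1 <;> rw [h1]
      · exact one_mem _
      · exact x_mem_Z
    refine f.mem_O' (M := E₁) (I := I) (fun r hr e he => f.Mod_norm hr he) hIR (mem_Mod _ _ _) hT
      (f.three (Or.inl rfl) f.w₁Z (inf_le_left.trans hE1U) (fun X hX hR => inf_le_left.trans (f.Mod_gen f.w₁V hX hR))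
        hIR hIO) (hA0T hb) fun e he => ?_
    rw [comm_iff.2 (hbe e (hE1E he))]
    exact one_mem _
  have hEaU : cj a E ≤ U := by
    rintro _ ⟨e, he, rfl⟩
    exact f.aU e (hEU he)
  -- inequalities in `V`
  have hq : w₁ * w₂ * x ≠ 1 := fun h => f.wZ (by
    have : w₁ * w₂ = x⁻¹ := eq_inv_of_mul_eq_one_left h
    rw [this]; exact inv_mem x_mem_Z)
  have hw12 : ∀ {d e : G}, d ∈ Zx x y → e ∈ Zx x y → e ≠ w₁ * w₂ * d := fun {d e} hd he h => f.wZ (by
    have : w₁ * w₂ = e * d⁻¹ := by rw [h]; group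
    rw [this]; exact mul_mem he (inv_mem hd))
  have haxy : a * (x * y) * a⁻¹ = x * y := by
    have e1 : a * (x * y) * a⁻¹ = (a * x * a⁻¹) * (a * y * a⁻¹) := by group
    have c1 : x * (w₁ * w₂ * y) = w₁ * w₂ * y * x := f.Uc _ f.xU _ (mul_mem (mul_mem f.w₁U f.w₂U) f.yU)
    have c2 : y * (w₁ * w₂) = w₁ * w₂ * y := f.Uc _ f.yU _ (mul_mem f.w₁U f.w₂U)
    have c3 : w₁ * w₂ * (w₁ * w₂) = 1 := f.Us _ (mul_mem f.w₁U f.w₂U)
    rw [e1, f.ax, f.ay, mul_assoc (w₁ * w₂) x, c1]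
    calc w₁ * w₂ * (w₁ * w₂ * y * x) = (w₁ * w₂ * (w₁ * w₂)) * (y * x) := by group
      _ = x * y := by rw [c3, one_mul, hxy]
  -- the count
  have hcount := count2 (B := A0) (B₁ := B₁) (E := E) (U := U) (a := a) hEU
    (fun e he => f.aU e (hEU he)) f.Uc
    (fun b hb => f.Ac a f.aA b hb.1) inf_le_left hcO
    (fun e b => qf x y (b * e * b⁻¹ * e⁻¹))
    (by
      intro e he e' he' b hb
      rw [f.cprod (hA0R hb.1) (hEU he) (hEU he')]
      exact qf_mul hxx hyy hxy hx1 hy1 hne (cE b hb e he) (cE b hb e' he'))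
    (by
      intro e he b hb b' hb'
      have e1 : (b * b') * e * (b * b')⁻¹ * e⁻¹ = b * (b' * e * b'⁻¹ * e⁻¹) * b⁻¹ * (b * e * b⁻¹ * e⁻¹) := by group
      rw [e1, f.conj_Z (hA0R hb.1) (hcZ b' hb' e he), add_comm]
      exact qf_mul hxx hyy hxy hx1 hy1 hne (cE b' hb' e he) (cE b hb e he))
    (by
      intro b hb h4
      have h5 : ∀ e ∈ E₁, b * e = e * b := by
        intro e he
        have h6 := qf_eq_zero.1 (h4 e (hE1E he))
        rw [← comm_iff]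
        rcases cE1 b hb.2 e he with h7 | h7
        · exact h7
        · exfalso
          rw [h7] at h6
          rcases h6 with h6 | h6
          · exact hx1 h6
          · exact hy1 (left_eq_mul.1 h6)
      have h6 : ∀ e ∈ E₂, b * e = e * b := by
        intro e he
        have h6 := qf_eq_zero.1 (h4 e (hE2E he))
        rw [← comm_iff]
        rcases cE2 b hb.2 e he with h7 | h7
        · exact h7
        · exfalso
          rw [h7] at h6
          rcases h6 with h6 | h6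
          · exact hy1 h6
          · exact hx1 (right_eq_mul.1 h6)
      intro e he
      obtain ⟨v, hv, e₁, he₁, e₂, he₂, rfl⟩ := hmE e he
      have c1 : Commute b v := hA0V b hb.1 v hv
      have c2 : Commute b e₁ := h5 e₁ he₁
      have c3 : Commute b e₂ := h6 e₂ he₂
      exact (c1.mul_right (c2.mul_right c3)).eq)
    (by
      intro e he e' he' b hb h4
      rw [qf_eq_zero]
      have h5 : b * e * b⁻¹ * e⁻¹ = 1 ∨ b * e * b⁻¹ * e⁻¹ = w₁ * w₂ * x ∨ b * e * b⁻¹ * e⁻¹ = w₁ * w₂ * y ∨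
          b * e * b⁻¹ * e⁻¹ = x * y := by
        rw [h4]
        rcases cE b hb e' he' with h6 | h6 | h6 | h6 <;> rw [h6]
        · left; group
        · right; left; exact f.ax
        · right; right; left; exact f.ay
        · right; right; right; exact haxy
      rcases h5 with h7 | h7 | h7 | h7
      · exact Or.inl h7
      · exact absurd h7 (hw12 x_mem_Z (hcZ b hb e he))
      · exact absurd h7 (hw12 y_mem_Z (hcZ b hb e he))
      · exact Or.inr h7)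
    (f.best₀ _ (sup_le hEU hEaU) (hVE.trans le_sup_left))
  -- the lower bound
  have hlow := split2 (B := A0) (E₁ := E₁) (E₂ := E₂) (V := V) (U := U) (k := κ)
    f.Uc f.VU hE1U hE2U
    (fun v hv => mem_centralizer_iff.2 fun b hb => hA0V b hb v hv) nE1 nE2 hF₁ hF₂ k1 k2
  rw [← hE] at hlow
  have hB1p : 0 < Nat.card B₁ := Nat.card_pos
  have hCp : 0 < Nat.card ↥(E ⊓ centralizer (A0 : Set G)) := Nat.card_pos
  have hA0p : 0 < Nat.card A0 := Nat.card_pos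
  have hκ0 : 0 < κ := by
    rcases Nat.eq_zero_or_pos κ with h4 | h4
    · rw [h4, zero_mul] at hκ
      omega
    · exact h4
  have r1 : Nat.card E ≤ κ * Nat.card ↥(E ⊓ centralizer (A0 : Set G)) := by
    have h4 : Nat.card E * Nat.card B₁ ≤ (κ * Nat.card ↥(E ⊓ centralizer (A0 : Set G))) * Nat.card B₁ := by
      calc Nat.card E * Nat.card B₁ ≤ Nat.card A0 * Nat.card ↥(E ⊓ centralizer (A0 : Set G)) := hcount
        _ = (κ * Nat.card B₁) * Nat.card ↥(E ⊓ centralizer (A0 : Set G)) := by rw [hκ]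
        _ = _ := by ring
    exact Nat.le_of_mul_le_mul_right h4 hB1p
  have hκ1 : κ = 1 := by
    have h4 : κ * κ * Nat.card ↥(E ⊓ centralizer (A0 : Set G)) ≤ κ * Nat.card ↥(E ⊓ centralizer (A0 : Set G)) :=
      hlow.trans r1
    have h5 : κ * κ ≤ κ := Nat.le_of_mul_le_mul_right h4 hCp
    nlinarith
  rw [hκ1, one_mul] at r1 hκ
  have hEc : E ≤ centralizer (A0 : Set G) := by
    have h4 : E ⊓ centralizer (A0 : Set G) = E := Subgroup.eq_of_le_of_card_ge inf_le_left r1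
    rw [← h4]
    exact inf_le_right
  -- the end
  obtain ⟨e, he, q, hq', hqe⟩ := f.mv (Or.inl rfl) f.w₁V f.w₁Z x_mem_Z f.Tw₁
  have hqx : q * e * q⁻¹ * e⁻¹ = x := (cE1 q hq'.2 e he).resolve_left fun h4 => hqe (comm_iff.1 h4)
  obtain ⟨v, hv, hev⟩ := f.act (X := E ⊔ cj a E) (sup_le hEU hEaU) (hVE.trans le_sup_left) (by
    intro b hb e he
    have h5 : E ⊔ cj a E ≤ centralizer ({b} : Set G) := by
      refine sup_le (fun e he => mem_centralizer_singleton_iff.2 (mem_centralizer_iff.1 (hEc he) b hb).symm) ?_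
      rintro _ ⟨e, he, rfl⟩
      refine mem_centralizer_singleton_iff.2 ?_
      change a * e * a⁻¹ * b = b * (a * e * a⁻¹)
      have c1 : Commute b a := f.Ac b hb.1 a f.aA
      have c2 : Commute b e := mem_centralizer_iff.1 (hEc he) b hb
      exact ((c1.mul_right c2).mul_right c1.inv_right).symm.eq
    exact (mem_centralizer_singleton_iff.1 (h5 he)).symm) (mem_sup_left (hE1E he))
  have hqT : q ∈ T := f.OT hq'.2
  have hqV : ∀ v ∈ V, q * v = v * q := fun v hv => (mem_centralizer_iff.1 hq'.1 v hv).symm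
  obtain ⟨q', hqd⟩ : ∃ q', q' = a * q * a⁻¹ := ⟨_, rfl⟩
  have hq'T : q' ∈ T := hqd ▸ f.aT q hqT hq'.1
  have hq'V : ∀ v ∈ V, q' * v * q'⁻¹ = v := by
    intro v hv
    have h5 : a * v * a⁻¹ ∈ V := f.a_V hv
    have h6 := hqV _ h5
    have h7 : a⁻¹ * v * a = a * v * a⁻¹ := by rw [f.a_inv]
    have e1 : q' * v * q'⁻¹ = a * (q * (a⁻¹ * v * a) * q⁻¹) * a⁻¹ := by rw [hqd]; group
    rw [e1, h7, h6]
    have e2 : a * (a * v * a⁻¹ * q * q⁻¹) * a⁻¹ = (a * a) * v * (a * a)⁻¹ := by group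
    rw [e2, f.As a f.aA]
    group
  have h5 : q' * (e * v) * q'⁻¹ * (e * v)⁻¹ = w₁ * w₂ * x := by
    rw [← f.ax, ← hqx, ← hev, hqd]
    group
  have h6 : q' * e * q'⁻¹ * e⁻¹ = w₁ * w₂ * x := by
    rw [← h5]
    calc q' * e * q'⁻¹ * e⁻¹ = q' * e * q'⁻¹ * v * v⁻¹ * e⁻¹ := by group
      _ = q' * e * q'⁻¹ * (q' * v * q'⁻¹) * v⁻¹ * e⁻¹ := by rw [hq'V v hv]
      _ = _ := by group
  have hrE : w₁ * w₂ * x ∈ E₁ := by
    rw [← h6]
    exact mul_mem (f.Mod_norm (f.TR hq'T) he) (inv_mem he)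
  refine f.w₂Z (f.mem_of_O (Or.inr rfl) f.w₂V fun c hc => ?_)
  have hcR := f.OR hc
  rw [← comm_iff]
  rcases f.Tw₂ c (f.OT hc) with h7 | h7
  · exact h7
  · exfalso
    have h8 := cE1 c hc _ hrE
    rw [f.cprod hcR (mul_mem f.w₁U f.w₂U) f.xU, f.cprod hcR f.w₁U f.w₂U, h7, f.conj_Z hcR x_mem_Z,
      mul_inv_cancel, mul_one] at h8
    rcases f.Tw₁ c (f.OT hc) with h9 | h9 <;> rw [h9] at h8
    · rw [one_mul] at h8
      rcases h8 with h8 | h8
      · exact hy1 h8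
      · exact hne h8.symm
    · rcases h8 with h8 | h8
      · apply hne
        calc x = x * (y * y) := by rw [hyy, mul_one]
          _ = y := by rw [← mul_assoc, h8, one_mul]
      · exact hy1 (mul_eq_left.1 h8)

end Pr

end Cfsg.Agent.Omega.NO3S.LightFive.TwoA

end

section


/-!
# LightL, `n = 5`, (A) of #25060: the choice of the offender (helper649's `swap`)

`O` acts on `V = ⟨p 0, ..., p 4⟩` as a subgroup of `⟨(0 2), (1 3)⟩`, `A` is elementary abelian of maximal order in `O ≥ V`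
and moves `V`: there is `A₁` of the same order which acts as `⟨(0 2)⟩` or as `⟨(1 3)⟩`.
-/

set_option autoImplicit false
set_option linter.unusedSectionVars false

namespace Cfsg.Agent.Omega.NO3S.LightFive.TwoA

open Subgroup Cfsg Cfsg.Agent.PLocal.ThompsonJ Cfsg.Agent.PLocal.ElemAbSup
open Cfsg.Agent.Omega.SQ1.Bau (elem_comm elem_sq mem_sup_comm card_sup_comm)

universe u

variable {G : Type u} [Group G] [Finite G]

/-- two cosets -/
theorem card_le_two_mul {H K : Subgroup G} (hHK : H ≤ K) (h : ∀ a ∈ K, ∀ b ∈ K, a ∉ H → b ∉ H → a * b ∈ H) :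
    Nat.card K ≤ 2 * Nat.card H := by
  by_cases hKH : K ≤ H
  · rw [le_antisymm hHK hKH]
    omega
  obtain ⟨a, haK, haH⟩ := SetLike.not_le_iff_exists.1 hKH
  have h1 : (H.subgroupOf K).index = 2 := by
    rw [index_eq_two_iff_exists_notMem_and]
    refine ⟨⟨a, haK⟩, fun h0 => haH (mem_subgroupOf.1 h0), fun b => ?_⟩
    by_cases hb : (b : G) ∈ H
    · right
      exact mem_subgroupOf.2 hb
    · left
      exact mem_subgroupOf.2 (h b b.2 a haK hb haH)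
  have h2 := (H.subgroupOf K).card_mul_index
  rw [h1, Nat.card_congr (subgroupOfEquivOfLe hHK).toEquiv] at h2
  omega

/-- a proper subgroup has at most half of the elements -/
theorem two_mul_card_le {H K : Subgroup G} (hHK : H ≤ K) {v : G} (hv : v ∈ K) (hvH : v ∉ H) :
    2 * Nat.card H ≤ Nat.card K := by
  have h1 : Nat.card H * H.relIndex K = Nat.card K := by
    have h2 := (H.subgroupOf K).card_mul_index
    rwa [Nat.card_congr (subgroupOfEquivOfLe hHK).toEquiv] at h2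
  have h2 : H.relIndex K ≠ 1 := fun h0 => hvH (relIndex_eq_one.1 h0 hv)
  have h3 : H.relIndex K ≠ 0 := by
    intro h0
    have h5 : 0 < Nat.card K := Nat.card_pos
    rw [← h1, h0] at h5
    omega
  have h4 : 2 ≤ H.relIndex K := by omega
  calc 2 * Nat.card H ≤ H.relIndex K * Nat.card H := Nat.mul_le_mul_right _ h4
    _ = Nat.card K := by rw [mul_comm]; exact h1

/-- the replacement `C_A(c) ⟨c⟩` -/
theorem repl {O A : Subgroup G} {a c : G} (hcO : c ∈ O) (hcc : c * c = 1) (hA : IsElementaryAbelian 2 A) (hAO : A ≤ O)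
    (hmax : ∀ B : Subgroup G, IsElementaryAbelian 2 B → B ≤ O → Nat.card B ≤ Nat.card A) (ha : a ∈ A)
    (hac : a * c = c * a)
    (h2 : ∀ b ∈ A, ∀ b' ∈ A, b * c ≠ c * b → b' * c ≠ c * b' → (b * b') * c = c * (b * b')) :
    ∃ A₁ : Subgroup G, a ∈ A₁ ∧ IsElementaryAbelian 2 A₁ ∧ A₁ ≤ O ∧ Nat.card A₁ = Nat.card A ∧
      ∀ b ∈ A₁, ∃ b₀ ∈ A, b₀ * c = c * b₀ ∧ ∃ k ∈ zpowers c, b = b₀ * k := by
  set A₀ := A ⊓ centralizer ({c} : Set G) with hA₀
  have hA₀m : ∀ b, b ∈ A₀ ↔ b ∈ A ∧ b * c = c * b := fun b => by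
    rw [hA₀, mem_inf, mem_centralizer_singleton_iff]
  have hc2 : c ^ 2 = 1 := by rw [pow_two]; exact hcc
  have hel : IsElementaryAbelian 2 (A₀ ⊔ zpowers c) := by
    refine isElementaryAbelian_sup (isElementaryAbelian_mono hA inf_le_left) (isElementaryAbelian_zpowers hc2) ?_
    rw [zpowers_le, mem_centralizer_iff]
    exact fun b hb => ((hA₀m b).1 hb).2
  by_cases hall : ∀ b ∈ A, b * c = c * b
  · exact ⟨A, ha, hA, hAO, rfl, fun b hb => ⟨b, hb, hall b hb, 1, one_mem _, (mul_one b).symm⟩⟩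
  push Not at hall
  obtain ⟨b₁, hb₁, hb₁c⟩ := hall
  refine ⟨A₀ ⊔ zpowers c, mem_sup_left ((hA₀m a).2 ⟨ha, hac⟩), hel, sup_le (inf_le_left.trans hAO) (zpowers_le.2 hcO),
    ?_, ?_⟩
  · apply le_antisymm
    · exact hmax _ hel (sup_le (inf_le_left.trans hAO) (zpowers_le.2 hcO))
    · have hcA : c ∉ A₀ := fun h0 => hb₁c (elem_comm hA b₁ hb₁ c ((hA₀m c).1 h0).1)
      have h3 : Nat.card A ≤ 2 * Nat.card A₀ := card_le_two_mul inf_le_left fun b hb b' hb' hn hn' =>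
        (hA₀m _).2 ⟨mul_mem hb hb', h2 b hb b' hb' (fun h0 => hn ((hA₀m b).2 ⟨hb, h0⟩))
          fun h0 => hn' ((hA₀m b').2 ⟨hb', h0⟩)⟩
      exact h3.trans (two_mul_card_le le_sup_left (mem_sup_right (mem_zpowers c)) hcA)
  · intro b hb
    obtain ⟨b₀, hb₀, k, hk, e⟩ := mem_sup_comm (A := A₀) (B := zpowers c) (by
      intro x hx y hy
      obtain ⟨n, rfl⟩ := mem_zpowers_iff.1 hy
      have h3 : Commute x c := ((hA₀m x).1 hx).2
      exact (h3.zpow_right n).eq) hb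
    exact ⟨b₀, ((hA₀m b₀).1 hb₀).1, ((hA₀m b₀).1 hb₀).2, k, hk, e⟩

section letters

variable {p : Fin 5 → G}

/-- `g` acts on the letters as `f` -/
def Acts (p : Fin 5 → G) (g : G) (f : Fin 5 → Fin 5) : Prop := ∀ i, g * p i * g⁻¹ = p (f i)

theorem Acts.mul {g g' : G} {f f' : Fin 5 → Fin 5} (h : Acts p g f) (h' : Acts p g' f') :
    Acts p (g * g') (fun i => f (f' i)) := by
  intro i
  have e : g * g' * p i * (g * g')⁻¹ = g * (g' * p i * g'⁻¹) * g⁻¹ := by group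
  rw [e, h' i, h (f' i)]

theorem Acts.comm {g : G} {f : Fin 5 → Fin 5} (h : Acts p g f) {i : Fin 5} (hi : f i = i) : g * p i = p i * g := by
  have h1 := h i
  rw [hi] at h1
  exact mul_inv_eq_iff_eq_mul.1 h1

theorem Acts.ne (inj : Function.Injective p) {g : G} {f : Fin 5 → Fin 5} (h : Acts p g f) {i : Fin 5} (hi : f i ≠ i) :
    g * p i ≠ p i * g := by
  intro h0
  apply hi
  apply inj
  rw [← h i, h0, mul_inv_cancel_right]

theorem Acts.mem {V : Subgroup G} (hV : V = closure (Set.range p)) {g : G} {f : Fin 5 → Fin 5} (h : Acts p g f)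
    (hf : ∀ i, f i = i) : g ∈ centralizer (V : Set G) := by
  rw [hV, centralizer_closure, mem_centralizer_iff]
  rintro _ ⟨i, rfl⟩
  exact (h.comm (hf i)).symm

theorem Acts.of_mem (comm : ∀ i j, p i * p j = p j * p i) {V : Subgroup G} (hV : V = closure (Set.range p)) {k : G}
    (hk : k ∈ V) : Acts p k id := by
  intro i
  have h1 : V ≤ centralizer ({p i} : Set G) := by
    rw [hV, closure_le]
    rintro _ ⟨j, rfl⟩
    exact mem_centralizer_singleton_iff.2 (comm j i)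
  have h2 := mem_centralizer_singleton_iff.1 (h1 hk)
  rw [h2, mul_inv_cancel_right]
  rfl

theorem swap {O V A : Subgroup G} {p : Fin 5 → G} (sq : ∀ i, p i * p i = 1) (comm : ∀ i j, p i * p j = p j * p i)
    (prod : p 4 = p 0 * p 1 * p 2 * p 3) (inj : Function.Injective p) (h4 : p 4 ≠ 1)
    (hV : V = closure (Set.range p)) (hVO : V ≤ O) (hA : IsElementaryAbelian 2 A) (hAO : A ≤ O)
    (hmax : ∀ B : Subgroup G, IsElementaryAbelian 2 B → B ≤ O → Nat.card B ≤ Nat.card A)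
    (hact : ∀ g ∈ O, (∀ i, g * p i * g⁻¹ = p i) ∨ (∀ i, g * p i * g⁻¹ = p (Equiv.swap 0 2 i)) ∨
      (∀ i, g * p i * g⁻¹ = p (Equiv.swap 1 3 i)) ∨
      (∀ i, g * p i * g⁻¹ = p ((Equiv.swap 0 2 * Equiv.swap 1 3 : Equiv.Perm (Fin 5)) i)))
    (hmv : ¬ A ≤ centralizer (V : Set G)) :
    ∃ A₁ : Subgroup G, ∃ a ∈ A₁, IsElementaryAbelian 2 A₁ ∧ A₁ ≤ O ∧ Nat.card A₁ = Nat.card A ∧
      ((∀ i, a * p i * a⁻¹ = p (Equiv.swap 0 2 i)) ∨ (∀ i, a * p i * a⁻¹ = p (Equiv.swap 1 3 i))) ∧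
      ∀ b ∈ A₁, b ∈ centralizer (V : Set G) ∨ b * a ∈ centralizer (V : Set G) := by
  have hpV : ∀ i, p i ∈ V := fun i => by rw [hV]; exact subset_closure ⟨i, rfl⟩
  have hact' : ∀ g ∈ O, Acts p g id ∨ Acts p g (Equiv.swap 0 2) ∨ Acts p g (Equiv.swap 1 3) ∨
      Acts p g ((Equiv.swap 0 2 * Equiv.swap 1 3 : Equiv.Perm (Fin 5))) := hact
  have hz : ∀ (c k : G), c ∈ V → k ∈ zpowers c → k ∈ V := fun c k hc hk => (zpowers_le.2 hc) hk
  by_cases h02 : ∃ a ∈ A, Acts p a (Equiv.swap 0 2)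
  · obtain ⟨a, haA, ha⟩ := h02
    obtain ⟨A₁, haA₁, h1, h2, h3, h5⟩ := repl (a := a) (c := p 1) (hVO (hpV 1)) (sq 1) hA hAO hmax haA
      (ha.comm (by decide)) (by
        intro b hb b' hb' hn hn'
        rcases hact' b (hAO hb) with h | h | h | h
        · exact absurd (h.comm rfl) hn
        · exact absurd (h.comm (by decide)) hn
        all_goals
          rcases hact' b' (hAO hb') with h' | h' | h' | h'
          · exact absurd (h'.comm rfl) hn'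
          · exact absurd (h'.comm (by decide)) hn'
          · exact (h.mul h').comm (by decide)
          · exact (h.mul h').comm (by decide))
    refine ⟨A₁, a, haA₁, h1, h2, h3, Or.inl ha, fun b hb => ?_⟩
    obtain ⟨b₀, hb₀, hb₀c, k, hk, rfl⟩ := h5 b hb
    have hkV := Acts.of_mem comm hV (hz _ k (hpV 1) hk)
    rcases hact' b₀ (hAO hb₀) with h | h | h | h
    · left
      exact (h.mul hkV).mem hV fun i => rfl
    · right
      exact ((h.mul hkV).mul ha).mem hV (by decide)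
    · exact absurd hb₀c (h.ne inj (by decide))
    · exact absurd hb₀c (h.ne inj (by decide))
  by_cases h13 : ∃ a ∈ A, Acts p a (Equiv.swap 1 3)
  · obtain ⟨a, haA, ha⟩ := h13
    obtain ⟨A₁, haA₁, h1, h2, h3, h5⟩ := repl (a := a) (c := p 0) (hVO (hpV 0)) (sq 0) hA hAO hmax haA
      (ha.comm (by decide)) (by
        intro b hb b' hb' hn hn'
        rcases hact' b (hAO hb) with h | h | h | h
        · exact absurd (h.comm rfl) hn
        rotate_left
        · exact absurd (h.comm (by decide)) hn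
        all_goals
          rcases hact' b' (hAO hb') with h' | h' | h' | h'
          · exact absurd (h'.comm rfl) hn'
          · exact (h.mul h').comm (by decide)
          · exact absurd (h'.comm (by decide)) hn'
          · exact (h.mul h').comm (by decide))
    refine ⟨A₁, a, haA₁, h1, h2, h3, Or.inr ha, fun b hb => ?_⟩
    obtain ⟨b₀, hb₀, hb₀c, k, hk, rfl⟩ := h5 b hb
    have hkV := Acts.of_mem comm hV (hz _ k (hpV 0) hk)
    rcases hact' b₀ (hAO hb₀) with h | h | h | h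
    · left
      exact (h.mul hkV).mem hV fun i => rfl
    · exact absurd hb₀c (h.ne inj (by decide))
    · right
      exact ((h.mul hkV).mul ha).mem hV (by decide)
    · exact absurd hb₀c (h.ne inj (by decide))
  -- only `(0 2)(1 3)`
  exfalso
  push Not at h02 h13
  have hA' : ∀ g ∈ A, Acts p g id ∨ Acts p g ((Equiv.swap 0 2 * Equiv.swap 1 3 : Equiv.Perm (Fin 5))) := by
    intro g hg
    rcases hact' g (hAO hg) with h | h | h | h
    · exact Or.inl h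
    · exact absurd h (h02 g hg)
    · exact absurd h (h13 g hg)
    · exact Or.inr h
  obtain ⟨a, haA, haV⟩ := SetLike.not_le_iff_exists.1 hmv
  have ha : Acts p a ((Equiv.swap 0 2 * Equiv.swap 1 3 : Equiv.Perm (Fin 5))) :=
    (hA' a haA).resolve_left fun h => haV (h.mem hV fun i => rfl)
  set A₀ := A ⊓ centralizer (V : Set G) with hA₀
  have hA₀c : ∀ b ∈ A₀, ∀ i, b * p i = p i * b := fun b hb i => (mem_centralizer_iff.1 hb.2 _ (hpV i)).symm
  have c1 : Nat.card A ≤ 2 * Nat.card A₀ := card_le_two_mul inf_le_left fun b hb b' hb' hn hn' => by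
    have h1 : Acts p b ((Equiv.swap 0 2 * Equiv.swap 1 3 : Equiv.Perm (Fin 5))) :=
      (hA' b hb).resolve_left fun h => hn ⟨hb, h.mem hV fun i => rfl⟩
    have h2 : Acts p b' ((Equiv.swap 0 2 * Equiv.swap 1 3 : Equiv.Perm (Fin 5))) :=
      (hA' b' hb').resolve_left fun h => hn' ⟨hb', h.mem hV fun i => rfl⟩
    exact ⟨mul_mem hb hb', (h1.mul h2).mem hV (by decide)⟩
  have hp0 : p 0 ∉ A := fun h0 => ha.ne inj (i := 0) (by decide) (elem_comm hA a haA _ h0)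
  have hp1 : p 1 ∉ A := fun h0 => ha.ne inj (i := 1) (by decide) (elem_comm hA a haA _ h0)
  have hp01 : p 0 * p 1 ∉ A := by
    intro h0
    have h1 := elem_comm hA a haA _ h0
    have e1 : a * (p 0 * p 1) * a⁻¹ = p 2 * p 3 := by
      have e2 : a * (p 0 * p 1) * a⁻¹ = (a * p 0 * a⁻¹) * (a * p 1 * a⁻¹) := by group
      rw [e2, ha 0, ha 1]
      rfl
    rw [h1, mul_inv_cancel_right] at e1
    apply h4
    rw [prod, mul_assoc (p 0 * p 1), ← e1]
    have h5 := sq 0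
    have h6 := sq 1
    calc p 0 * p 1 * (p 0 * p 1) = (p 0 * p 0) * (p 1 * p 1) := by
          rw [mul_assoc, ← mul_assoc (p 1) (p 0), comm 1 0]; group
      _ = 1 := by rw [h5, h6, one_mul]
  -- `A₀ ⟨p 0⟩ ⟨p 1⟩`
  have hel0 : IsElementaryAbelian 2 (A₀ ⊔ zpowers (p 0)) := by
    refine isElementaryAbelian_sup (isElementaryAbelian_mono hA inf_le_left)
      (isElementaryAbelian_zpowers (by rw [pow_two]; exact sq 0)) ?_
    rw [zpowers_le, mem_centralizer_iff]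
    exact fun b hb => hA₀c b hb 0
  have hcm : A₀ ⊔ zpowers (p 0) ≤ centralizer ({p 1} : Set G) := by
    refine sup_le (fun b hb => mem_centralizer_singleton_iff.2 (hA₀c b hb 1)) ?_
    rw [zpowers_le, mem_centralizer_singleton_iff]
    exact comm 0 1
  have hel1 : IsElementaryAbelian 2 ((A₀ ⊔ zpowers (p 0)) ⊔ zpowers (p 1)) := by
    refine isElementaryAbelian_sup hel0 (isElementaryAbelian_zpowers (by rw [pow_two]; exact sq 1)) ?_
    rw [zpowers_le, mem_centralizer_iff]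
    exact fun b hb => mem_centralizer_singleton_iff.1 (hcm hb)
  have c2 := two_mul_card_le (H := A₀) (K := A₀ ⊔ zpowers (p 0)) le_sup_left (mem_sup_right (mem_zpowers _))
    fun h0 => hp0 h0.1
  have c3 := two_mul_card_le (H := A₀ ⊔ zpowers (p 0)) (K := (A₀ ⊔ zpowers (p 0)) ⊔ zpowers (p 1)) le_sup_left
    (mem_sup_right (mem_zpowers (p 1))) (by
      intro h0
      obtain ⟨b, hb, k, hk, e⟩ := mem_sup_comm (A := A₀) (B := zpowers (p 0)) (by
        intro x hx y hy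
        obtain ⟨n, rfl⟩ := mem_zpowers_iff.1 hy
        have h3 : Commute x (p 0) := hA₀c x hx 0
        exact (h3.zpow_right n).eq) h0
      have hk' : k = 1 ∨ k = p 0 := by
        obtain ⟨n, rfl⟩ := mem_zpowers_iff.1 hk
        have h5 : p 0 ^ (2 : ℤ) = 1 := by rw [zpow_ofNat, pow_two]; exact sq 0
        rcases Int.even_or_odd' n with ⟨m, rfl | rfl⟩
        · left; rw [zpow_mul, h5, one_zpow]
        · right; rw [zpow_add, zpow_mul, h5, one_zpow, one_mul, zpow_one]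
      rcases hk' with rfl | rfl
      · rw [mul_one] at e
        exact hp1 (e ▸ hb.1)
      · apply hp01
        rw [e, ← mul_assoc, ← hA₀c b hb 0, mul_assoc, sq 0, mul_one]
        exact hb.1)
  have c4 := hmax _ hel1 (sup_le (sup_le (inf_le_left.trans hAO) (zpowers_le.2 (hVO (hpV 0))))
    (zpowers_le.2 (hVO (hpV 1))))
  have c5 : 0 < Nat.card A₀ := Nat.card_pos
  omega

end letters

end Cfsg.Agent.Omega.NO3S.LightFive.TwoA

end
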