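import Cfsg.Agent.Mrg.Omega.NO3S.SN2.Small.Top
import Cfsg.Agent.Mrg.Omega.NO3S.TwoA.Mem
import Cfsg.Agent.Mrg.Omega.NO3S.TwoJ.Core
import Cfsg.Agent.Mrg.Omega.NO3S.LightB.Facts
import Cfsg.Agent.Mrg.Omega.NO3S.MFive.TSix
import Cfsg.Agent.Mrg.Omega.LFive.Frame
import Cfsg.Agent.Mrg.Omega.NO3S.LightFive.TwoAInst
import Cfsg.Agent.Mrg.Omega.NO3S.LightFive.TwoAFacts

section


/-!
# LightL (E), `n = 5`: (1') over `FiveL S P p` (LEMMA (1'U), helper433 #26100)

`D = C_G(n) ∩ C_G(a)`, `V = zl S P = zc (o2 P)`, `T = Std.T S p`.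

* `lt` : 586's letters `Lt (zv p) P`;
* `O_le`, `O_cent` : `O₂(C_G(z_a z_b, z_c z_d)) ≤ P`, its centraliser of `V` is in `O₂(P)`;
* `DD_ij` : `⟨V^{C_G(p i p j)}⟩` is elementary abelian;
* `one`, `one'` : if some `A ∈ AA (o2 D)` moves `V`, then for every `R ∈ P(D, T)` every `R`-invariant `M ≤ ⟨V^R⟩`
  centralised by `O₂(R)` is centralised by `O²(R)`.
-/

set_option autoImplicit false
set_option linter.unusedSectionVars false

namespace Cfsg.Agent.Omega.NO3S.LightFive.OnePF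

open Subgroup Cfsg Cfsg.Agent.ZN Cfsg.Agent.ZN.ChoiceBase
open Cfsg.Agent.ZN.ChoiceSit (Syl o2_cj o2_le_syl)
open Cfsg.Agent.Omega.NTwo Cfsg.Agent.Omega.NO3S.Sym.Exit Cfsg.Agent.Omega.NO3S.Sym.Light
open Cfsg.Agent.Omega.NO3S.TwoA (Dd Lt Sh Dd_symm)
open Cfsg.Agent.Omega.NO3S.TwoJ (UR)
open Cfsg.Agent.Omega.NO3S.LightFive.OneP (Memb)
open Cfsg.Agent.Omega.NO3S.MFive.Inst (zv)
open Cfsg.Agent.Omega.NO3S.MFive (perm_four)
open Cfsg.Agent.MinSimple.MinParabolic (IsMinPar)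
open Cfsg.Agent.MinSimple.VModule (oddGen)

universe u

variable {G : Type u} [Group G]

theorem Dd_zv (p : Fin 5 → G) :
    Dd (zv p) 1 2 3 4 = centralizer ({nn p} : Set G) ⊓ centralizer ({aa p} : Set G) := by
  ext x
  simp only [Dd, mem_centralizer_iff, mem_inf, Set.mem_insert_iff, Set.mem_singleton_iff, forall_eq_or_imp, forall_eq]
  rfl

variable [Finite G] {S : Sylow 2 G} {P : Subgroup G} {p : Fin 5 → G} (h : FiveL S P p)
include h

local notation "VV" => zl (S : Subgroup G) P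

theorem O_le_T : o2 (Dd (zv p) 1 2 3 4) ≤ Std.T (S : Subgroup G) p := by
  rw [Dd_zv]
  exact o2_le_syl (LightB.sylD h)

theorem lt : Lt (zv p) P where
  sq := (MFive.Inst.zfv h).sq
  comm := (MFive.Inst.zfv h).comm
  prod := MFive.Inst.prod_z h
  inj := (MFive.Inst.zfv h).inj
  ne1 := (MFive.Inst.zfv h).ne
  act := fun g hg => (MFive.Inst.zfv h).perm g hg
  full := fun σ => (MFive.Inst.zfv h).full σ
  VO := fun a => by
    rw [Dd_zv]
    exact LightB.DD_le_o2D h (le_DD (h.p_mem _))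
  OL := (O_le_T h).trans (Std.T_le.trans h.std.le)

theorem z_mem (i : Fin 5) : zv p i ∈ VV := h.p_mem _

/-- `O₂(C_G(z_a z_b, z_c z_d))` is conjugate in `P` to `O₂(D)` -/
theorem exists_cj {a b c d : Fin 5} (hab : a ≠ b) (hac : a ≠ c) (hbc : b ≠ c) (had : a ≠ d) (hbd : b ≠ d) (hcd : c ≠ d) :
    ∃ k ∈ P, o2 (Dd (zv p) a b c d) = cj k (o2 (Dd (zv p) 1 2 3 4)) := by
  obtain ⟨τ, t1, t2, t3, t4⟩ := perm_four (a := 1) (b := 2) (c := 3) (d := 4) (a' := a) (b' := b) (c' := c) (d' := d)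
    (by decide) (by decide) (by decide) (by decide) (by decide) (by decide) hab hac hbc had hbd hcd
  obtain ⟨k, hkP, hk⟩ := (lt h).full τ
  refine ⟨k, hkP, ?_⟩
  have h1 := (lt h).cj_Dd hk 1 2 3 4
  rw [t1, t2, t3, t4] at h1
  rw [← h1, o2_cj]

theorem O_le {a b c d : Fin 5} (hab : a ≠ b) (hac : a ≠ c) (hbc : b ≠ c) (had : a ≠ d) (hbd : b ≠ d) (hcd : c ≠ d) :
    o2 (Dd (zv p) a b c d) ≤ P := by
  obtain ⟨k, hk, e⟩ := exists_cj h hab hac hbc had hbd hcd
  rw [e]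
  rintro _ ⟨y, hy, rfl⟩
  exact P.mul_mem (P.mul_mem hk ((lt h).OL hy)) (P.inv_mem hk)

theorem O_cent {a b c d : Fin 5} (hab : a ≠ b) (hac : a ≠ c) (hbc : b ≠ c) (had : a ≠ d) (hbd : b ≠ d) (hcd : c ≠ d)
    {x : G} (hx : x ∈ o2 (Dd (zv p) a b c d)) (hxV : ∀ v ∈ VV, x * v = v * x) : x ∈ o2 P := by
  obtain ⟨k, hk, e⟩ := exists_cj h hab hac hbc had hbd hcd
  rw [e] at hx
  obtain ⟨y, hy, rfl⟩ := hx
  have h1 : y ∈ o2 P := by
    refine MFive.Inst.cS h (Std.T_le (O_le_T h hy)) fun v hv => ?_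
    have h2 := hxV (k * v * k⁻¹) (P_norm S P hk hv)
    change k * y * k⁻¹ * (k * v * k⁻¹) = k * v * k⁻¹ * (k * y * k⁻¹) at h2
    calc y * v = k⁻¹ * (k * y * k⁻¹ * (k * v * k⁻¹)) * k := by group
      _ = k⁻¹ * (k * v * k⁻¹ * (k * y * k⁻¹)) * k := by rw [h2]
      _ = v * y := by group
  exact (mem_normalizer_iff.1 (MinSimple.VModule.le_normalizer_o2 P hk) y).1 h1

/-- `⟨V^{C_G(p i p j)}⟩` is abelian -/
theorem DD_ij {i j : Fin 5} (hij : i ≠ j) : IsElementaryAbelian 2 (DD VV (zv p i * zv p j)) := by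
  obtain ⟨g, hg, e⟩ := h.lights (i := MFive.Inst.rho i) (j := MFive.Inst.rho j)
    (fun e => hij (MFive.Inst.rho.injective e))
  have h1 : DD VV (zv p i * zv p j) = cj g (DD VV (nn p)) := by
    have h2 := conj_DD (V := VV) (x := nn p) g
    rw [conj_V hg, e] at h2
    exact h2.symm
  rw [h1]
  exact isElementaryAbelian_cj g (LightB.DD_el h)

theorem DD_le_O {a b c d : Fin 5} (hcd : c ≠ d) :
    DD VV (zv p c * zv p d) ≤ o2 (Dd (zv p) a b c d) := by
  have hel := DD_ij h hcd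
  have h1 : DD VV (zv p c * zv p d) ≤ Dd (zv p) a b c d := by
    intro x hx
    have key : ∀ v ∈ VV, v * x = x * v := fun v hv => ESym.ea_comm hel (le_DD hv) hx
    refine mem_centralizer_iff.2 ?_
    rintro _ (rfl | rfl)
    · exact key _ (mul_mem (z_mem h a) (z_mem h b))
    · exact key _ (mul_mem (z_mem h c) (z_mem h d))
  refine ChoiceSit.le_o2 (PLocal.ThompsonJ.isPGroup_of_isElementaryAbelian hel) h1 ?_
  refine le_trans (fun x hx => ?_) cent_le_normalizer_DD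
  exact mem_centralizer_singleton_iff.2 (mem_centralizer_iff.1 hx _ (by simp)).symm

/-- a member in the sense of OneP -/
theorem memb {a b c d : Fin 5} (hab : a ≠ b) (hac : a ≠ c) (hbc : b ≠ c) (had : a ≠ d) (hbd : b ≠ d) (hcd : c ≠ d)
    {A : Subgroup G} (hA : A ∈ AA (o2 (Dd (zv p) a b c d))) (hs : Sh (zv p) a b A) :
    ∃ g, (∀ i, g * zv p i * g⁻¹ = zv p (Equiv.swap a b i)) ∧
      Memb (o2 (Dd (zv p) a b c d)) VV (DD VV (zv p c * zv p d)) A (o2 P) g := by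
  obtain ⟨g, hg, hgs⟩ := hs.2
  have hgP : g ∈ P := O_le h hab hac hbc had hbd hcd (hA.2.1 hg)
  have hcl : ∀ x y : G, (∀ i, x * zv p i * x⁻¹ = y * zv p i * y⁻¹) → ∀ v ∈ VV, x * v * x⁻¹ = y * v * y⁻¹ := by
    intro x y hxy v hv
    have hv' : v ∈ closure (Set.range (zv p)) := by
      rw [MFive.Inst.range_zv, ← h.gen]; exact hv
    induction hv' using closure_induction with
    | mem w hw =>
      obtain ⟨i, rfl⟩ := hw
      exact hxy i
    | one => group
    | mul v w _ _ h1 h2 =>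
      have hv1 : v ∈ VV := by rw [h.gen, ← MFive.Inst.range_zv]; assumption
      have hw1 : w ∈ VV := by rw [h.gen, ← MFive.Inst.range_zv]; assumption
      calc x * (v * w) * x⁻¹ = (x * v * x⁻¹) * (x * w * x⁻¹) := by group
        _ = (y * v * y⁻¹) * (y * w * y⁻¹) := by rw [h1 hv1, h2 hw1]
        _ = _ := by group
    | inv v _ h1 =>
      have hv1 : v ∈ VV := by rw [h.gen, ← MFive.Inst.range_zv]; assumption
      calc x * v⁻¹ * x⁻¹ = (x * v * x⁻¹)⁻¹ := by group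
        _ = (y * v * y⁻¹)⁻¹ := by rw [h1 hv1]
        _ = _ := by group
  refine ⟨g, hgs, ?_⟩
  refine
    { mem := hA
      V2 := PLocal.ThompsonJ.isElementaryAbelian_mono (DD_ij h hcd) le_DD
      W2 := DD_ij h hcd
      VW := le_DD
      WO := DD_le_O h hcd
      aA := hg
      aV := fun v hv => P_norm S P hgP hv
      ind := ?_
      mov := ⟨zv p a, z_mem h a, ?_⟩
      cQ := fun b hb hbV => O_cent h hab hac hbc had hbd hcd (hA.2.1 hb) hbV
      aQ := fun q hq => (mem_normalizer_iff.1 (MinSimple.VModule.le_normalizer_o2 P hgP) q).1 hq }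
  · intro b hb
    rcases hs.1 b hb with h1 | h1
    · left
      intro v hv
      have h2 := hcl b 1 (fun i => by rw [h1 i]; group) v hv
      rw [one_mul, inv_one, mul_one] at h2
      exact mul_inv_eq_iff_eq_mul.1 h2
    · right
      exact hcl b g fun i => by rw [h1, hgs]
  · intro e
    have h1 := hgs a
    rw [e, mul_inv_cancel_right, Equiv.swap_apply_left] at h1
    exact hab ((lt h).inj h1)

/-- `Z_J = {1, n, a, p 4}` -/
theorem mem_Z_of {v : G} (hv : v ∈ VV) {x y : G} (hx : ∀ i, x * zv p i * x⁻¹ = zv p (Equiv.swap 1 2 i))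
    (hy : ∀ i, y * zv p i * y⁻¹ = zv p (Equiv.swap 3 4 i)) (hxv : x * v * x⁻¹ = v) (hyv : y * v * y⁻¹ = v) :
    v = 1 ∨ v = p 4 ∨ v = nn p ∨ v = aa p := by
  have hx' : x * p 0 * x⁻¹ = p 1 ∧ x * p 1 * x⁻¹ = p 0 ∧ x * p 2 * x⁻¹ = p 2 ∧ x * p 3 * x⁻¹ = p 3 ∧
      x * p 4 * x⁻¹ = p 4 := ⟨hx 1, hx 2, hx 3, hx 4, hx 0⟩
  have hy' : y * p 0 * y⁻¹ = p 0 ∧ y * p 1 * y⁻¹ = p 1 ∧ y * p 2 * y⁻¹ = p 3 ∧ y * p 3 * y⁻¹ = p 2 ∧
      y * p 4 * y⁻¹ = p 4 := ⟨hy 1, hy 2, hy 3, hy 4, hy 0⟩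
  have fx : ∀ i, x * p i * x⁻¹ = p (Equiv.swap 0 1 i) := by
    intro i
    fin_cases i
    · exact hx'.1
    · exact hx'.2.1
    · exact hx'.2.2.1
    · exact hx'.2.2.2.1
    · exact hx'.2.2.2.2
  have fy : ∀ i, y * p i * y⁻¹ = p (Equiv.swap 2 3 i) := by
    intro i
    fin_cases i
    · exact hy'.1
    · exact hy'.2.1
    · exact hy'.2.2.1
    · exact hy'.2.2.2.1
    · exact hy'.2.2.2.2
  rcases h.elts hv with rfl | ⟨i, rfl⟩ | ⟨i, j, hij, rfl⟩
  · exact Or.inl rfl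
  · right; left
    rw [fx] at hxv
    rw [fy] at hyv
    have e1 := h.std.inj hxv
    have e2 := h.std.inj hyv
    congr 1
    revert e1 e2
    clear * -
    revert i
    decide
  · right; right
    rw [cm, fx, fx] at hxv
    rw [cm, fy, fy] at hyv
    have e1 := h.std.pair_inj (fun e => hij ((Equiv.swap (0 : Fin 5) 1).injective e)) hij hxv
    have e2 := h.std.pair_inj (fun e => hij ((Equiv.swap (2 : Fin 5) 3).injective e)) hij hyv
    have key : ∀ i j : Fin 5, i ≠ j →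
        ((Equiv.swap (0 : Fin 5) 1 i = i ∧ Equiv.swap (0 : Fin 5) 1 j = j) ∨
          (Equiv.swap (0 : Fin 5) 1 i = j ∧ Equiv.swap (0 : Fin 5) 1 j = i)) →
        ((Equiv.swap (2 : Fin 5) 3 i = i ∧ Equiv.swap (2 : Fin 5) 3 j = j) ∨
          (Equiv.swap (2 : Fin 5) 3 i = j ∧ Equiv.swap (2 : Fin 5) 3 j = i)) →
        ((i = 0 ∧ j = 1) ∨ (i = 1 ∧ j = 0)) ∨ ((i = 2 ∧ j = 3) ∨ (i = 3 ∧ j = 2)) := by decide
    rcases key i j hij e1 e2 with (⟨rfl, rfl⟩ | ⟨rfl, rfl⟩) | (⟨rfl, rfl⟩ | ⟨rfl, rfl⟩)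
    · exact Or.inl rfl
    · exact Or.inl (h.std.comm _ _)
    · exact Or.inr rfl
    · exact Or.inr (h.std.comm _ _)

omit h [Finite G] in
theorem UR_le_DD {V R : Subgroup G} {x : G} (hR : R ≤ centralizer ({x} : Set G)) : UR R V ≤ DD V x := by
  rw [UR, closure_le]
  rintro _ ⟨r, hr, v, hv, rfl⟩
  exact (mem_normalizer_iff.1 (cent_le_normalizer_DD (hR hr)) v).1 (le_DD hv)

/-- **(1')** -/
theorem one (hz : Cfsg.Agent.ZN.zc (o2 P) = VV) {A : Subgroup G}
    (hA : A ∈ AA (o2 (centralizer ({nn p} : Set G) ⊓ centralizer ({aa p} : Set G))))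
    (hm : ¬ A ≤ centralizer (VV : Set G)) {R M : Subgroup G} (hR : IsMinPar (Std.T (S : Subgroup G) p) R)
    (hRD : R ≤ centralizer ({nn p} : Set G) ⊓ centralizer ({aa p} : Set G)) (hM : M ≤ UR R VV)
    (hMn : R ≤ normalizer (M : Set G)) (hMK : ∀ k ∈ o2 R, ∀ m ∈ M, k * m = m * k) :
    M ≤ centralizer (oddGen R : Set G) := by
  rw [← Dd_zv] at hA
  have hm' : ¬ A ≤ centralizer (Set.range (zv p)) := by
    intro h1
    apply hm
    rw [h.gen, centralizer_closure, ← MFive.Inst.range_zv]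
    exact h1
  have hTR : Std.T (S : Subgroup G) p ≤ R := hR.le
  have hsyl : Syl (Std.T (S : Subgroup G) p) R :=
    ⟨hTR, LightB.T_two, fun Q hQ hQ2 hTQ => (LightB.sylD h).2.2 Q (hQ.trans hRD) hQ2 hTQ⟩
  have hVT : VV ≤ Std.T (S : Subgroup G) p := fun v hv =>
    ⟨h.V_le hv, mem_centralizer_singleton_iff.2 (h.V_comm hv h.n_mem)⟩
  -- the two members
  obtain ⟨A₁, hA₁, s₁⟩ := (lt h).mem hA hm' (a := 1) (b := 0) (c := 3) (d := 4) (by decide) (by decide) (by decide)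
    (by decide) (by decide) (by decide)
  obtain ⟨A₂, hA₂, s₂⟩ := (lt h).mem hA hm' (a := 3) (b := 0) (c := 1) (d := 2) (by decide) (by decide) (by decide)
    (by decide) (by decide) (by decide)
  obtain ⟨a₁, ha₁, m₁⟩ := memb h (by decide) (by decide) (by decide) (by decide) (by decide) (by decide) hA₁ s₁
  obtain ⟨a₂, ha₂, m₂⟩ := memb h (by decide) (by decide) (by decide) (by decide) (by decide) (by decide) hA₂ s₂
  -- `O ≤ O₂(R)` contains elements acting as `(1 2)` and `(3 4)`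
  have hOR : o2 (Dd (zv p) 1 2 3 4) ≤ o2 R := by
    refine ChoiceSit.le_o2 (ChoiceSit.isPGroup_o2 _) ((O_le_T h).trans hTR) ?_
    rw [Dd_zv]
    exact hRD.trans (MinSimple.VModule.le_normalizer_o2 _)
  obtain ⟨B₁, hB₁, t₁⟩ := (lt h).mem hA hm' (a := 1) (b := 2) (c := 3) (d := 4) (by decide) (by decide) (by decide)
    (by decide) (by decide) (by decide)
  obtain ⟨B₂, hB₂, t₂⟩ := (lt h).mem hA hm' (a := 3) (b := 4) (c := 1) (d := 2) (by decide) (by decide) (by decide)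
    (by decide) (by decide) (by decide)
  obtain ⟨-, x, hx, hx1⟩ := t₁
  obtain ⟨-, y, hy, hy1⟩ := t₂
  have hxR : x ∈ o2 R := hOR (hB₁.2.1 hx)
  have hyR : y ∈ o2 R := hOR (by rw [Dd_symm]; exact hB₂.2.1 hy)
  have hRnn : R ≤ centralizer ({nn p} : Set G) := hRD.trans inf_le_left
  have hRaa : R ≤ centralizer ({aa p} : Set G) := hRD.trans inf_le_right
  have hp4 : p 4 = nn p * aa p := by
    have h1 := MFive.Inst.prod_z h
    change p 4 = p 0 * p 1 * p 2 * p 3 at h1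
    rw [h1, nn, aa, mul_assoc (p 0 * p 1)]
  -- the centre `Z_J`
  let Z : Subgroup G := closure {nn p, aa p}
  have hZc : R ≤ centralizer (Z : Set G) := by
    change R ≤ centralizer ((closure {nn p, aa p} : Subgroup G) : Set G)
    rw [centralizer_closure]
    intro r hr
    refine mem_centralizer_iff.2 ?_
    rintro _ (rfl | rfl)
    · exact (mem_centralizer_singleton_iff.1 (hRnn hr)).symm
    · exact (mem_centralizer_singleton_iff.1 (hRaa hr)).symm
  have hZV : Z ≤ VV := by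
    change closure {nn p, aa p} ≤ _
    rw [closure_le]
    rintro _ (rfl | rfl)
    · exact h.n_mem
    · exact h.a_mem
  have hnZ : nn p ∈ Z := subset_closure (by simp)
  have haZ : aa p ∈ Z := subset_closure (by simp)
  have hK : ∀ v ∈ VV, (∀ k ∈ o2 R, k * v = v * k) → v = 1 ∨ v = p 4 ∨ v = nn p ∨ v = aa p := by
    intro v hv hk
    refine mem_Z_of h hv hx1 hy1 ?_ ?_
    · rw [hk x hxR, mul_inv_cancel_right]
    · rw [hk y hyR, mul_inv_cancel_right]
  have hZm : ∀ v : G, (v = 1 ∨ v = p 4 ∨ v = nn p ∨ v = aa p) → v ∈ Z := by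
    rintro v (rfl | rfl | rfl | rfl)
    · exact one_mem _
    · rw [hp4]; exact mul_mem hnZ haZ
    · exact hnZ
    · exact haZ
  have hZe : ∀ v ∈ Z, v = 1 ∨ v = p 4 ∨ v = nn p ∨ v = aa p := by
    intro v hv
    refine hK v (hZV hv) fun k hk => ?_
    exact (mem_centralizer_iff.1 (hZc (MinSimple.VModule.o2_le R hk)) v hv).symm
  have hVR : UR R VV ≤ R := by
    rw [UR, closure_le]
    rintro _ ⟨r, hr, v, hv, rfl⟩
    exact R.mul_mem (R.mul_mem hr (hTR (hVT hv))) (R.inv_mem hr)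
  refine OneP.one_of (Q := o2 P) (Z := Z) hsyl hR m₁ m₂ ?_ ?_ hZc ?_ ?_ ?_ ?_ (hM.trans hVR) ?_ ?_ hMn hMK
  · intro q hq
    exact ⟨MFive.Inst.QS h hq, mem_centralizer_singleton_iff.2 (MFive.Inst.VcQ h hq h.n_mem)⟩
  · exact fun v hv q hq => (MFive.Inst.VcQ h hq hv).symm
  · -- `C_W(Q) = V`
    intro u hu hq
    have h1 : u ∈ o2 P := by
      refine O_cent h (a := 1) (b := 0) (c := 3) (d := 4) (by decide) (by decide) (by decide) (by decide) (by decide)
        (by decide) (m₁.WO hu) fun v hv => ?_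
      exact ESym.ea_comm m₁.W2 hu (m₁.VW hv)
    rw [← hz]
    refine ChoiceBase.mem_zc.2 ⟨h1, ?_, fun q hq' => hq q hq'⟩
    exact ESym.ea_sq m₁.W2 hu
  · intro v hv ht
    refine hZm v (hK v hv fun k hk => ht k ?_)
    exact o2_le_syl hsyl hk
  · exact fun v hv hk => hZm v (hK v hv hk)
  · -- `Z_J ∩ Z_J^{a₁} ∩ Z_J^{a₂} = 1`
    intro z hz h1 h2
    have e1 := hZe _ h1
    have e2 := hZe _ h2
    have b0 : a₁ * p 0 * a₁⁻¹ = p 4 := ha₁ 1
    have b1 : a₁ * p 1 * a₁⁻¹ = p 1 := ha₁ 2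
    have b4 : a₁ * p 4 * a₁⁻¹ = p 0 := ha₁ 0
    have c2 : a₂ * p 2 * a₂⁻¹ = p 4 := ha₂ 3
    have c3 : a₂ * p 3 * a₂⁻¹ = p 3 := ha₂ 4
    have hnot : ∀ i j k : Fin 5, i ≠ j → p i * p j ≠ p k := fun i j k hij e =>
      MFive.Inst.not_light h (g := 1) (i := k) hij (by rw [e]; group)
    rcases hZe z hz with rfl | rfl | rfl | rfl
    · rfl
    · exfalso
      rw [b4] at e1
      rcases e1 with e | e | e | e
      · exact h.std.ne _ e
      · exact absurd (h.std.inj e) (by decide)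
      · exact hnot 0 1 0 (by decide) e.symm
      · exact hnot 2 3 0 (by decide) e.symm
    · exfalso
      rw [nn, cm, b0, b1] at e1
      rcases e1 with e | e | e | e
      · exact absurd (h.std.inj (mul_eq_one_iff_eq_inv.1 e |>.trans (h.std.pinv 1))) (by decide)
      · exact hnot 4 1 4 (by decide) e
      · have := h.std.pair_inj (a := 4) (b := 1) (c := 0) (d := 1) (by decide) (by decide) e
        revert this; decide
      · have := h.std.pair_inj (a := 4) (b := 1) (c := 2) (d := 3) (by decide) (by decide) e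
        revert this; decide
    · exfalso
      rw [aa, cm, c2, c3] at e2
      rcases e2 with e | e | e | e
      · exact absurd (h.std.inj (mul_eq_one_iff_eq_inv.1 e |>.trans (h.std.pinv 3))) (by decide)
      · exact hnot 4 3 4 (by decide) e
      · have := h.std.pair_inj (a := 4) (b := 3) (c := 0) (d := 1) (by decide) (by decide) e
        revert this; decide
      · have := h.std.pair_inj (a := 4) (b := 3) (c := 2) (d := 3) (by decide) (by decide) e
        revert this; decide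
  · exact hM.trans (UR_le_DD hRaa)
  · exact hM.trans (UR_le_DD hRnn)

/-- **(1')** in the form of `TwoJ.Dat.one` -/
theorem one' (hz : Cfsg.Agent.ZN.zc (o2 P) = VV) {A : Subgroup G}
    (hA : A ∈ AA (o2 (centralizer ({nn p} : Set G) ⊓ centralizer ({aa p} : Set G))))
    (hm : ¬ A ≤ centralizer (VV : Set G)) {R : Subgroup G} (hR : IsMinPar (Std.T (S : Subgroup G) p) R)
    (hRD : R ≤ centralizer ({nn p} : Set G) ⊓ centralizer ({aa p} : Set G)) :
    ∀ M : Subgroup G, M ≤ UR R VV → (∀ m ∈ M, ∀ k ∈ o2 R, k * m = m * k) → (∀ r ∈ R, ∀ m ∈ M, r * m * r⁻¹ ∈ M) →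
      ∀ r ∈ oddGen R, ∀ m ∈ M, r * m = m * r := by
  intro M hM hMK hMn r hr m hm'
  have h1 : R ≤ normalizer (M : Set G) := by
    intro x hx
    refine mem_normalizer_iff.2 fun y => ⟨hMn x hx y, fun hy => ?_⟩
    have h2 := hMn x⁻¹ (R.inv_mem hx) _ hy
    have e : x⁻¹ * (x * y * x⁻¹) * x⁻¹⁻¹ = y := by group
    rwa [e] at h2
  exact mem_centralizer_iff.1 (one h hz hA hm hR hRD hM h1 (fun k hk m hm => hMK m hm k hk) hm') r hr

end Cfsg.Agent.Omega.NO3S.LightFive.OnePF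

end

section


/-!
# LightL (E), `n = 5`: (A) over the common frame

`LF.dd_le` : if `J(O₂(D))` moves `V`, then `D ≤ L*` for every `L* ≥ N_G(V), C_G(p 2, p 3, p 4)`
(649's `Dt.le`, 220's facts, (1') = `OnePF.one`).
-/

set_option autoImplicit false
set_option linter.unusedSectionVars false

namespace Cfsg.Agent.Omega.LFive

open Subgroup Cfsg Cfsg.Agent.ZN Cfsg.Agent.ZN.ChoiceBase
open Cfsg.Agent.Omega.NTwo (nn aa Std mem_cent cm)
open Cfsg.Agent.Omega.NO3S.Sym.Light (FiveL DD le_DD)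
open Cfsg.Agent.Omega.NO3S.LightFive (OnePF.one)
open Cfsg.Agent.Omega.NO3S.TwoJ (UR)

universe u

variable {G : Type u} [Group G] [Finite G] {S : Sylow 2 G} {P : Subgroup G} {p : Fin 5 → G}

theorem le_UR {R V : Subgroup G} : V ≤ UR R V := fun v hv => subset_closure ⟨1, R.one_mem, v, hv, by group⟩

theorem norm_UR {R V : Subgroup G} : R ≤ normalizer (UR R V : Set G) := by
  have key : ∀ r ∈ R, ∀ x ∈ UR R V, r * x * r⁻¹ ∈ UR R V := by
    intro r hr x hx
    have h1 : UR R V ≤ cj r⁻¹ (UR R V) := by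
      rw [UR, closure_le]
      rintro _ ⟨s, hs, v, hv, rfl⟩
      refine mem_cj.2 ?_
      refine subset_closure ⟨r * s, R.mul_mem hr hs, v, hv, ?_⟩
      group
    have h2 := mem_cj.1 (h1 hx)
    rwa [inv_inv] at h2
  intro r hr
  refine mem_normalizer_iff.2 fun x => ⟨key r hr x, fun hx => ?_⟩
  have h2 := key r⁻¹ (R.inv_mem hr) _ hx
  have e : r⁻¹ * (r * x * r⁻¹) * r⁻¹⁻¹ = x := by group
  rwa [e] at h2

/-- **(A)** -/
theorem LF.dd_le (h : LF S P p) {Ls : Subgroup G} (hL : ll S P ≤ Ls) (hX : centralizer {p 2, p 3, p 4} ≤ Ls)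
    (hJ : ¬ jj (o2 (dd p)) ≤ centralizer (zl (S : Subgroup G) P : Set G)) : dd p ≤ Ls := by
  have hV : NO3S.LightFive.TwoA.VV p = zl (S : Subgroup G) P := h.gen.symm
  obtain ⟨A, hA, hAV⟩ : ∃ A ∈ AA (o2 (dd p)), ¬ A ≤ centralizer (zl (S : Subgroup G) P : Set G) := by
    by_contra hcon
    push Not at hcon
    apply hJ
    rw [jj_eq]
    exact sSup_le fun A hA => hcon A hA
  have hd : NO3S.LightFive.TwoA.Dt (ll S P) Ls (Std.T (S : Subgroup G) p) (DD (zl (S : Subgroup G) P) (p 4)) p :=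
    { fv := NO3S.LightFive.TwoAPlug.fv_N h.toFiveL
      cv := by rw [hV]; exact centralizer_le_normalizer _
      LLs := hL
      cen := NO3S.LightFive.TwoAPlug.cen h.toFiveL hL hX
      syl := NO3S.LightB.sylD h.toFiveL
      TL := le_normalizer.trans h.nT
      nT := fun g _ hg => hL (h.nT hg)
      Uc := NO3S.LightFive.TwoAPlug.U_comm h.toFiveL
      Us := NO3S.LightFive.TwoAPlug.U_sq h.toFiveL
      VU := by rw [hV]; exact le_DD
      nU := NO3S.LightFive.TwoAPlug.nU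
      one := fun R hR hRD _ M _ hM hMn hMK => by
        rw [hV] at hM
        refine Subgroup.le_centralizer_iff.1 (NO3S.LightFive.OnePF.one h.toFiveL h.zq hA hAV hR hRD
          (hM _ le_UR norm_UR) hMn fun k hk m hm => ?_)
        exact mem_centralizer_iff.1 (hMK hm) k hk }
  refine hd.le ?_
  rw [hV]
  exact hJ

end Cfsg.Agent.Omega.LFive

end
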